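import Mathlib.Data.Nat.Notation

set_option autoImplicit false
set_option maxRecDepth 100000

/-! # Data of the centralizer of an involution of `J3`: a complement, and conjugating words -/

namespace Cfsg.Agent.Lib.Helper4.J3C

/-- the words of the elements of a complement -/
def HL : List (List ℕ) := [
  [1, 3, 1, 4, 2, 0, 3, 0, 1, 4, 2],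
  [],
  [0, 3, 0, 3, 0, 3, 3, 1, 0, 2, 3, 2, 0, 3, 0, 3, 0, 3, 3, 1, 0, 2, 3, 2, 0, 1, 0, 1, 0, 3, 3, 0, 1, 3, 1, 3],
  [0, 3, 0, 3, 0, 3, 3, 1, 0, 2, 3, 2, 0, 3, 0, 3, 0, 3, 3, 1, 0, 2, 3, 2, 0, 1, 4, 1, 3, 1, 3, 2, 0, 2, 0],
  [0, 3, 0, 3, 0, 3, 3, 1, 0, 2, 3, 2, 0, 3, 0, 3, 0, 3, 3, 1, 0, 2, 3, 2, 0, 3, 0, 3, 0, 3, 3, 1, 0, 2, 3, 2, 0, 3, 0, 3, 0, 3, 3, 1, 0, 2, 3, 2, 4, 2, 0, 1, 0, 1, 4, 0, 4, 2, 0],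
  [0, 3, 0, 3, 0, 3, 3, 1, 0, 2, 3, 2, 0, 3, 0, 3, 0, 3, 3, 1, 0, 2, 3, 2, 0, 3, 0, 3, 0, 3, 3, 1, 0, 2, 3, 2, 0, 3, 0, 3, 0, 3, 3, 1, 0, 2, 3, 2, 0, 3, 0, 3, 0, 3, 3, 1, 0, 2, 3, 2, 0, 3, 0, 3, 0, 3, 3, 1, 0, 2, 3, 2, 2, 0, 4, 0, 4, 1, 0, 4, 0, 2, 0],
  [0, 1, 3, 1, 1, 3, 1, 3, 3, 2, 3, 3, 2, 4, 2],
  [0, 1, 3, 1, 0, 3, 0, 3, 0, 3, 3, 1, 0, 2, 3, 2, 0, 3, 0, 3, 0, 3, 3, 1, 0, 2, 3, 2, 0, 3, 0, 3, 0, 3, 3, 1, 0, 2, 3, 2, 0, 3, 0, 3, 0, 3, 3, 1, 0, 2, 3, 2, 0, 4, 0, 1, 0, 4, 0, 4, 0, 3, 2],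
  [0, 1, 3, 1, 0, 1, 3, 1, 0, 3, 0, 3, 0, 3, 3, 1, 0, 2, 3, 2, 0, 3, 0, 3, 0, 3, 3, 1, 0, 2, 3, 2, 0, 4, 0, 3, 0, 3, 3, 2, 3, 3, 0],
  [0, 1, 3, 1, 0, 1, 3, 1, 0, 3, 0, 3, 0, 3, 3, 1, 0, 2, 3, 2, 0, 3, 0, 3, 0, 3, 3, 1, 0, 2, 3, 2, 0, 3, 0, 3, 0, 3, 3, 1, 0, 2, 3, 2, 0, 3, 0, 3, 0, 3, 3, 1, 0, 2, 3, 2, 0, 3, 0, 3, 0, 3, 3, 1, 0, 2, 3, 2, 0, 3, 0, 3, 0, 3, 3, 1, 0, 2, 3, 2, 1, 0, 2, 4, 0, 4, 2, 3, 3, 1],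
  [0, 1, 3, 1, 0, 1, 3, 1, 0, 1, 3, 1, 0, 3, 0, 3, 0, 3, 3, 1, 0, 2, 3, 2, 0, 3, 0, 3, 0, 3, 3, 1, 0, 2, 3, 2, 0, 3, 0, 3, 0, 3, 3, 1, 0, 2, 3, 2, 0, 3, 0, 3, 0, 3, 3, 1, 0, 2, 3, 2, 2, 3, 0, 2, 3, 0, 4, 1, 3, 3, 1],
  [0, 1, 3, 1, 0, 1, 3, 1, 0, 1, 3, 1, 0, 3, 0, 3, 0, 3, 3, 1, 0, 2, 3, 2, 0, 3, 0, 3, 0, 3, 3, 1, 0, 2, 3, 2, 0, 3, 0, 3, 0, 3, 3, 1, 0, 2, 3, 2, 0, 3, 0, 3, 0, 3, 3, 1, 0, 2, 3, 2, 0, 3, 2, 3, 1, 4, 2, 0, 3, 0, 3, 1],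
  [0, 1, 3, 1, 0, 1, 3, 1, 0, 1, 3, 1, 0, 3, 0, 3, 0, 3, 3, 1, 0, 2, 3, 2, 0, 3, 0, 3, 0, 3, 3, 1, 0, 2, 3, 2, 0, 3, 0, 3, 0, 3, 3, 1, 0, 2, 3, 2, 0, 3, 0, 3, 0, 3, 3, 1, 0, 2, 3, 2, 0, 3, 0, 3, 0, 3, 3, 1, 0, 2, 3, 2, 0, 3, 0, 3, 0, 3, 3, 1, 0, 2, 3, 2, 4, 1, 0, 3, 1, 4, 2, 4, 2],
  [0, 1, 3, 1, 0, 1, 3, 1, 0, 1, 3, 1, 0, 1, 3, 1, 3, 0, 4, 1, 0, 3, 2, 4, 1, 3],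
  [0, 1, 3, 1, 0, 1, 3, 1, 0, 1, 3, 1, 0, 1, 3, 1, 0, 3, 0, 3, 0, 3, 3, 1, 0, 2, 3, 2, 0, 3, 0, 3, 0, 3, 3, 1, 0, 2, 3, 2, 1, 4, 2, 3, 0, 1, 4, 2, 3, 2],
  [0, 1, 3, 1, 0, 1, 3, 1, 0, 1, 3, 1, 0, 1, 3, 1, 0, 3, 0, 3, 0, 3, 3, 1, 0, 2, 3, 2, 0, 3, 0, 3, 0, 3, 3, 1, 0, 2, 3, 2, 0, 3, 0, 3, 0, 3, 3, 1, 0, 2, 3, 2, 0, 3, 0, 3, 0, 3, 3, 1, 0, 2, 3, 2, 4, 1, 4, 0, 1, 0, 4, 2, 3, 1],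
  [0, 1, 3, 1, 0, 1, 3, 1, 0, 1, 3, 1, 0, 1, 3, 1, 0, 1, 3, 1, 4, 2, 0, 1, 4, 1, 0, 1, 0, 4, 2],
  [0, 1, 3, 1, 0, 1, 3, 1, 0, 1, 3, 1, 0, 1, 3, 1, 0, 1, 3, 1, 0, 2, 3, 0, 2, 0, 3, 2, 3],
  [0, 1, 3, 1, 0, 1, 3, 1, 0, 1, 3, 1, 0, 1, 3, 1, 0, 1, 3, 1, 0, 3, 0, 3, 0, 3, 3, 1, 0, 2, 3, 2, 0, 3, 0, 3, 0, 3, 3, 1, 0, 2, 3, 2, 0, 3, 0, 3, 0, 3, 3, 1, 0, 2, 3, 2, 0, 3, 0, 3, 0, 3, 3, 1, 0, 2, 3, 2, 0, 3, 0, 3, 0, 3, 3, 1, 0, 2, 3, 2, 0, 3, 0, 3, 0, 3, 3, 1, 0, 2, 3, 2, 1, 0, 2, 4, 0, 4, 2, 3, 2, 0],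
  [0, 1, 3, 1, 0, 1, 3, 1, 0, 1, 3, 1, 0, 1, 3, 1, 0, 1, 3, 1, 0, 1, 3, 1, 3, 3, 0, 4, 1, 3, 1, 3, 3],
  [0, 1, 3, 1, 0, 1, 3, 1, 0, 1, 3, 1, 0, 1, 3, 1, 0, 1, 3, 1, 0, 1, 3, 1, 0, 3, 0, 3, 0, 3, 3, 1, 0, 2, 3, 2, 0, 3, 0, 3, 0, 3, 3, 1, 0, 2, 3, 2, 0, 3, 0, 3, 0, 3, 3, 1, 0, 2, 3, 2, 0, 3, 0, 3, 0, 3, 3, 1, 0, 2, 3, 2, 1, 3, 2, 3, 2, 4, 1, 4, 2],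
  [0, 1, 3, 1, 0, 1, 3, 1, 0, 1, 3, 1, 0, 1, 3, 1, 0, 1, 3, 1, 0, 1, 3, 1, 0, 3, 0, 3, 0, 3, 3, 1, 0, 2, 3, 2, 0, 3, 0, 3, 0, 3, 3, 1, 0, 2, 3, 2, 0, 3, 0, 3, 0, 3, 3, 1, 0, 2, 3, 2, 0, 3, 0, 3, 0, 3, 3, 1, 0, 2, 3, 2, 0, 3, 0, 3, 0, 3, 3, 1, 0, 2, 3, 2, 0, 3, 0, 3, 0, 3, 3, 1, 0, 2, 3, 2, 0, 1, 4, 1, 3, 0, 3, 1, 0, 2],
  [0, 1, 3, 1, 0, 1, 3, 1, 0, 1, 3, 1, 0, 1, 3, 1, 0, 1, 3, 1, 0, 1, 3, 1, 0, 1, 3, 1, 1, 3, 2, 3, 2, 4, 1, 4, 2],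
  [0, 1, 3, 1, 0, 1, 3, 1, 0, 1, 3, 1, 0, 1, 3, 1, 0, 1, 3, 1, 0, 1, 3, 1, 0, 1, 3, 1, 0, 3, 0, 3, 0, 3, 3, 1, 0, 2, 3, 2, 0, 3, 0, 3, 0, 3, 3, 1, 0, 2, 3, 2, 0, 1, 4, 1, 3, 0, 3, 1, 0, 2],
  [0, 1, 3, 1, 0, 1, 3, 1, 0, 1, 3, 1, 0, 1, 3, 1, 0, 1, 3, 1, 0, 1, 3, 1, 0, 1, 3, 1, 0, 3, 0, 3, 0, 3, 3, 1, 0, 2, 3, 2, 0, 3, 0, 3, 0, 3, 3, 1, 0, 2, 3, 2, 0, 3, 0, 3, 0, 3, 3, 1, 0, 2, 3, 2, 0, 3, 0, 3, 0, 3, 3, 1, 0, 2, 3, 2, 3, 3, 0, 4, 1, 3, 1, 3, 3],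
  [0, 1, 3, 1, 0, 1, 3, 1, 0, 1, 3, 1, 0, 1, 3, 1, 0, 1, 3, 1, 0, 1, 3, 1, 0, 1, 3, 1, 0, 1, 3, 1, 0, 3, 0, 3, 0, 3, 3, 1, 0, 2, 3, 2, 0, 3, 0, 3, 0, 3, 3, 1, 0, 2, 3, 2, 1, 0, 2, 4, 0, 4, 2, 3, 2, 0],
  [0, 1, 3, 1, 0, 1, 3, 1, 0, 1, 3, 1, 0, 1, 3, 1, 0, 1, 3, 1, 0, 1, 3, 1, 0, 1, 3, 1, 0, 1, 3, 1, 0, 3, 0, 3, 0, 3, 3, 1, 0, 2, 3, 2, 0, 3, 0, 3, 0, 3, 3, 1, 0, 2, 3, 2, 0, 3, 0, 3, 0, 3, 3, 1, 0, 2, 3, 2, 0, 3, 0, 3, 0, 3, 3, 1, 0, 2, 3, 2, 4, 2, 0, 1, 4, 1, 0, 1, 0, 4, 2],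
  [0, 1, 3, 1, 0, 1, 3, 1, 0, 1, 3, 1, 0, 1, 3, 1, 0, 1, 3, 1, 0, 1, 3, 1, 0, 1, 3, 1, 0, 1, 3, 1, 0, 3, 0, 3, 0, 3, 3, 1, 0, 2, 3, 2, 0, 3, 0, 3, 0, 3, 3, 1, 0, 2, 3, 2, 0, 3, 0, 3, 0, 3, 3, 1, 0, 2, 3, 2, 0, 3, 0, 3, 0, 3, 3, 1, 0, 2, 3, 2, 0, 2, 3, 0, 2, 0, 3, 2, 3],
  [0, 1, 3, 1, 0, 1, 3, 1, 0, 1, 3, 1, 0, 1, 3, 1, 0, 1, 3, 1, 0, 1, 3, 1, 0, 1, 3, 1, 0, 1, 3, 1, 0, 1, 3, 1, 4, 1, 4, 0, 1, 0, 4, 2, 3, 1],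
  [0, 1, 3, 1, 0, 1, 3, 1, 0, 1, 3, 1, 0, 1, 3, 1, 0, 1, 3, 1, 0, 1, 3, 1, 0, 1, 3, 1, 0, 1, 3, 1, 0, 1, 3, 1, 0, 3, 0, 3, 0, 3, 3, 1, 0, 2, 3, 2, 0, 3, 0, 3, 0, 3, 3, 1, 0, 2, 3, 2, 0, 3, 0, 3, 0, 3, 3, 1, 0, 2, 3, 2, 0, 3, 0, 3, 0, 3, 3, 1, 0, 2, 3, 2, 3, 0, 4, 1, 0, 3, 2, 4, 1, 3],
  [0, 1, 3, 1, 0, 1, 3, 1, 0, 1, 3, 1, 0, 1, 3, 1, 0, 1, 3, 1, 0, 1, 3, 1, 0, 1, 3, 1, 0, 1, 3, 1, 0, 1, 3, 1, 0, 3, 0, 3, 0, 3, 3, 1, 0, 2, 3, 2, 0, 3, 0, 3, 0, 3, 3, 1, 0, 2, 3, 2, 0, 3, 0, 3, 0, 3, 3, 1, 0, 2, 3, 2, 0, 3, 0, 3, 0, 3, 3, 1, 0, 2, 3, 2, 0, 3, 0, 3, 0, 3, 3, 1, 0, 2, 3, 2, 0, 3, 0, 3, 0, 3, 3, 1, 0, 2, 3, 2, 1, 4, 2, 3, 0, 1, 4, 2, 3, 2],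
  [0, 1, 3, 1, 0, 1, 3, 1, 0, 1, 3, 1, 0, 1, 3, 1, 0, 1, 3, 1, 0, 1, 3, 1, 0, 1, 3, 1, 0, 1, 3, 1, 0, 1, 3, 1, 0, 1, 3, 1, 2, 3, 0, 2, 3, 0, 4, 1, 3, 3, 1],
  [0, 1, 3, 1, 0, 1, 3, 1, 0, 1, 3, 1, 0, 1, 3, 1, 0, 1, 3, 1, 0, 1, 3, 1, 0, 1, 3, 1, 0, 1, 3, 1, 0, 1, 3, 1, 0, 1, 3, 1, 0, 3, 2, 3, 1, 4, 2, 0, 3, 0, 3, 1],
  [0, 1, 3, 1, 0, 1, 3, 1, 0, 1, 3, 1, 0, 1, 3, 1, 0, 1, 3, 1, 0, 1, 3, 1, 0, 1, 3, 1, 0, 1, 3, 1, 0, 1, 3, 1, 0, 1, 3, 1, 0, 3, 0, 3, 0, 3, 3, 1, 0, 2, 3, 2, 0, 3, 0, 3, 0, 3, 3, 1, 0, 2, 3, 2, 4, 1, 0, 3, 1, 4, 2, 4, 2],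
  [0, 1, 3, 1, 0, 1, 3, 1, 0, 1, 3, 1, 0, 1, 3, 1, 0, 1, 3, 1, 0, 1, 3, 1, 0, 1, 3, 1, 0, 1, 3, 1, 0, 1, 3, 1, 0, 1, 3, 1, 0, 1, 3, 1, 0, 3, 0, 3, 0, 3, 3, 1, 0, 2, 3, 2, 0, 3, 0, 3, 0, 3, 3, 1, 0, 2, 3, 2, 1, 0, 2, 4, 0, 4, 2, 3, 3, 1],
  [0, 1, 3, 1, 0, 1, 3, 1, 0, 1, 3, 1, 0, 1, 3, 1, 0, 1, 3, 1, 0, 1, 3, 1, 0, 1, 3, 1, 0, 1, 3, 1, 0, 1, 3, 1, 0, 1, 3, 1, 0, 1, 3, 1, 0, 3, 0, 3, 0, 3, 3, 1, 0, 2, 3, 2, 0, 3, 0, 3, 0, 3, 3, 1, 0, 2, 3, 2, 0, 3, 0, 3, 0, 3, 3, 1, 0, 2, 3, 2, 0, 3, 0, 3, 0, 3, 3, 1, 0, 2, 3, 2, 0, 3, 0, 3, 0, 3, 3, 1, 0, 2, 3, 2, 0, 3, 0, 3, 0, 3, 3, 1, 0, 2, 3, 2, 0, 4, 0, 3, 0, 3, 3, 2, 3, 3, 0],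
  [0, 1, 3, 1, 0, 1, 3, 1, 0, 1, 3, 1, 0, 1, 3, 1, 0, 1, 3, 1, 0, 1, 3, 1, 0, 1, 3, 1, 0, 1, 3, 1, 0, 1, 3, 1, 0, 1, 3, 1, 0, 1, 3, 1, 0, 1, 3, 1, 0, 4, 0, 1, 0, 4, 0, 4, 0, 3, 2],
  [0, 1, 3, 1, 0, 1, 3, 1, 0, 1, 3, 1, 0, 1, 3, 1, 0, 1, 3, 1, 0, 1, 3, 1, 0, 1, 3, 1, 0, 1, 3, 1, 0, 1, 3, 1, 0, 1, 3, 1, 0, 1, 3, 1, 0, 1, 3, 1, 0, 3, 0, 3, 0, 3, 3, 1, 0, 2, 3, 2, 0, 3, 0, 3, 0, 3, 3, 1, 0, 2, 3, 2, 0, 3, 0, 3, 0, 3, 3, 1, 0, 2, 3, 2, 0, 3, 0, 3, 0, 3, 3, 1, 0, 2, 3, 2, 1, 3, 1, 3, 3, 2, 3, 3, 2, 4, 2],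
  [0, 1, 3, 1, 0, 1, 3, 1, 0, 1, 3, 1, 0, 1, 3, 1, 0, 1, 3, 1, 0, 1, 3, 1, 0, 1, 3, 1, 0, 1, 3, 1, 0, 1, 3, 1, 0, 1, 3, 1, 0, 1, 3, 1, 0, 1, 3, 1, 0, 1, 3, 1, 4, 2, 0, 1, 0, 1, 4, 0, 4, 2, 0],
  [0, 1, 3, 1, 0, 1, 3, 1, 0, 1, 3, 1, 0, 1, 3, 1, 0, 1, 3, 1, 0, 1, 3, 1, 0, 1, 3, 1, 0, 1, 3, 1, 0, 1, 3, 1, 0, 1, 3, 1, 0, 1, 3, 1, 0, 1, 3, 1, 0, 1, 3, 1, 0, 3, 0, 3, 0, 3, 3, 1, 0, 2, 3, 2, 0, 3, 0, 3, 0, 3, 3, 1, 0, 2, 3, 2, 2, 0, 4, 0, 4, 1, 0, 4, 0, 2, 0],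
  [0, 1, 3, 1, 0, 1, 3, 1, 0, 1, 3, 1, 0, 1, 3, 1, 0, 1, 3, 1, 0, 1, 3, 1, 0, 1, 3, 1, 0, 1, 3, 1, 0, 1, 3, 1, 0, 1, 3, 1, 0, 1, 3, 1, 0, 1, 3, 1, 0, 1, 3, 1, 0, 3, 0, 3, 0, 3, 3, 1, 0, 2, 3, 2, 0, 3, 0, 3, 0, 3, 3, 1, 0, 2, 3, 2, 0, 3, 0, 3, 0, 3, 3, 1, 0, 2, 3, 2, 0, 3, 0, 3, 0, 3, 3, 1, 0, 2, 3, 2, 1, 3, 1, 4, 2, 0, 3, 0, 1, 4, 2],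
  [0, 1, 3, 1, 0, 1, 3, 1, 0, 1, 3, 1, 0, 1, 3, 1, 0, 1, 3, 1, 0, 1, 3, 1, 0, 1, 3, 1, 0, 1, 3, 1, 0, 1, 3, 1, 0, 1, 3, 1, 0, 1, 3, 1, 0, 1, 3, 1, 0, 1, 3, 1, 0, 3, 0, 3, 0, 3, 3, 1, 0, 2, 3, 2, 0, 3, 0, 3, 0, 3, 3, 1, 0, 2, 3, 2, 0, 3, 0, 3, 0, 3, 3, 1, 0, 2, 3, 2, 0, 3, 0, 3, 0, 3, 3, 1, 0, 2, 3, 2],
  [0, 1, 3, 1, 0, 1, 3, 1, 0, 1, 3, 1, 0, 1, 3, 1, 0, 1, 3, 1, 0, 1, 3, 1, 0, 1, 3, 1, 0, 1, 3, 1, 0, 1, 3, 1, 0, 1, 3, 1, 0, 1, 3, 1, 0, 1, 3, 1, 0, 1, 3, 1, 0, 3, 0, 3, 0, 3, 3, 1, 0, 2, 3, 2, 0, 3, 0, 3, 0, 3, 3, 1, 0, 2, 3, 2, 0, 3, 0, 3, 0, 3, 3, 1, 0, 2, 3, 2, 0, 3, 0, 3, 0, 3, 3, 1, 0, 2, 3, 2, 0, 3, 0, 3, 0, 3, 3, 1, 0, 2, 3, 2, 0, 3, 0, 3, 0, 3, 3, 1, 0, 2,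 3, 2, 0, 1, 0, 1, 0, 3, 3, 0, 1, 3, 1, 3],
  [0, 1, 3, 1, 0, 1, 3, 1, 0, 1, 3, 1, 0, 1, 3, 1, 0, 1, 3, 1, 0, 1, 3, 1, 0, 1, 3, 1, 0, 1, 3, 1, 0, 1, 3, 1, 0, 1, 3, 1, 0, 1, 3, 1, 0, 1, 3, 1, 0, 1, 3, 1, 0, 3, 0, 3, 0, 3, 3, 1, 0, 2, 3, 2, 0, 3, 0, 3, 0, 3, 3, 1, 0, 2, 3, 2, 0, 3, 0, 3, 0, 3, 3, 1, 0, 2, 3, 2, 0, 3, 0, 3, 0, 3, 3, 1, 0, 2, 3, 2, 0, 3, 0, 3, 0, 3, 3, 1, 0, 2, 3, 2, 0, 3, 0, 3, 0, 3, 3, 1, 0, 2, 3, 2, 0, 1, 4, 1, 3, 1, 3, 2, 0, 2, 0],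
  [0, 1, 3, 1, 0, 1, 3, 1, 0, 1, 3, 1, 0, 1, 3, 1, 0, 1, 3, 1, 0, 1, 3, 1, 0, 1, 3, 1, 0, 1, 3, 1, 0, 1, 3, 1, 0, 1, 3, 1, 0, 1, 3, 1, 0, 1, 3, 1, 0, 1, 3, 1, 0, 1, 3, 1, 3, 0, 3, 1, 0, 2, 4, 0, 4],
  [0, 1, 3, 1, 0, 1, 3, 1, 0, 1, 3, 1, 0, 1, 3, 1, 0, 1, 3, 1, 0, 1, 3, 1, 0, 1, 3, 1, 0, 1, 3, 1, 0, 1, 3, 1, 0, 1, 3, 1, 0, 1, 3, 1, 0, 1, 3, 1, 0, 1, 3, 1, 0, 1, 3, 1, 1, 0, 4, 0, 2, 4, 2, 4, 1, 4, 0],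
  [0, 1, 3, 1, 0, 1, 3, 1, 0, 1, 3, 1, 0, 1, 3, 1, 0, 1, 3, 1, 0, 1, 3, 1, 0, 1, 3, 1, 0, 1, 3, 1, 0, 1, 3, 1, 0, 1, 3, 1, 0, 1, 3, 1, 0, 1, 3, 1, 0, 1, 3, 1, 0, 1, 3, 1, 1, 3, 2, 3, 1, 4, 1, 4, 2],
  [0, 1, 3, 1, 0, 1, 3, 1, 0, 1, 3, 1, 0, 1, 3, 1, 0, 1, 3, 1, 0, 1, 3, 1, 0, 1, 3, 1, 0, 1, 3, 1, 0, 1, 3, 1, 0, 1, 3, 1, 0, 1, 3, 1, 0, 1, 3, 1, 0, 1, 3, 1, 0, 1, 3, 1, 0, 3, 0, 3, 0, 3, 3, 1, 0, 2, 3, 2, 0, 3, 0, 3, 0, 3, 3, 1, 0, 2, 3, 2, 3, 2, 0, 2, 3, 3, 0, 3, 1, 3, 3, 2],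
  [0, 1, 3, 1, 0, 1, 3, 1, 0, 1, 3, 1, 0, 1, 3, 1, 0, 1, 3, 1, 0, 1, 3, 1, 0, 1, 3, 1, 0, 1, 3, 1, 0, 1, 3, 1, 0, 1, 3, 1, 0, 1, 3, 1, 0, 1, 3, 1, 0, 1, 3, 1, 0, 1, 3, 1, 0, 3, 0, 3, 0, 3, 3, 1, 0, 2, 3, 2, 0, 3, 0, 3, 0, 3, 3, 1, 0, 2, 3, 2, 0, 3, 0, 3, 0, 3, 3, 1, 0, 2, 3, 2, 0, 3, 0, 3, 0, 3, 3, 1, 0, 2, 3, 2, 0, 2, 0, 4, 1, 4, 1, 3, 2, 4, 1, 0],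
  [0, 1, 3, 1, 0, 1, 3, 1, 0, 1, 3, 1, 0, 1, 3, 1, 0, 1, 3, 1, 0, 1, 3, 1, 0, 1, 3, 1, 0, 1, 3, 1, 0, 1, 3, 1, 0, 1, 3, 1, 0, 1, 3, 1, 0, 1, 3, 1, 0, 1, 3, 1, 0, 1, 3, 1, 0, 3, 0, 3, 0, 3, 3, 1, 0, 2, 3, 2, 0, 3, 0, 3, 0, 3, 3, 1, 0, 2, 3, 2, 0, 3, 0, 3, 0, 3, 3, 1, 0, 2, 3, 2, 0, 3, 0, 3, 0, 3, 3, 1, 0, 2, 3, 2, 1, 3, 3, 1, 0, 2, 4, 0, 2, 3, 2, 4],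
  [0, 1, 3, 1, 0, 1, 3, 1, 0, 1, 3, 1, 0, 1, 3, 1, 0, 1, 3, 1, 0, 1, 3, 1, 0, 1, 3, 1, 0, 1, 3, 1, 0, 1, 3, 1, 0, 1, 3, 1, 0, 1, 3, 1, 0, 1, 3, 1, 0, 1, 3, 1, 0, 1, 3, 1, 0, 3, 0, 3, 0, 3, 3, 1, 0, 2, 3, 2, 0, 3, 0, 3, 0, 3, 3, 1, 0, 2, 3, 2, 0, 3, 0, 3, 0, 3, 3, 1, 0, 2, 3, 2, 0, 3, 0, 3, 0, 3, 3, 1, 0, 2, 3, 2, 0, 3, 0, 3, 0, 3, 3, 1, 0, 2, 3, 2, 0, 3, 0, 3, 0, 3, 3, 1, 0, 2, 3, 2, 0, 3, 0, 3, 2, 3, 2, 3, 0, 3, 2],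
  [0, 1, 3, 1, 0, 1, 3, 1, 0, 1, 3, 1, 0, 1, 3, 1, 0, 1, 3, 1, 0, 1, 3, 1, 0, 1, 3, 1, 0, 1, 3, 1, 0, 1, 3, 1, 0, 1, 3, 1, 0, 1, 3, 1, 0, 1, 3, 1, 0, 1, 3, 1, 0, 1, 3, 1, 0, 1, 3, 1, 0, 3, 0, 3, 0, 3, 3, 1, 0, 2, 3, 2, 0, 3, 0, 3, 0, 3, 3, 1, 0, 2, 3, 2, 1, 0, 1, 0, 4, 2, 0, 2, 3, 0, 1, 3],
  [0, 1, 3, 1, 0, 1, 3, 1, 0, 1, 3, 1, 0, 1, 3, 1, 0, 1, 3, 1, 0, 1, 3, 1, 0, 1, 3, 1, 0, 1, 3, 1, 0, 1, 3, 1, 0, 1, 3, 1, 0, 1, 3, 1, 0, 1, 3, 1, 0, 1, 3, 1, 0, 1, 3, 1, 0, 1, 3, 1, 0, 3, 0, 3, 0, 3, 3, 1, 0, 2, 3, 2, 0, 3, 0, 3, 0, 3, 3, 1, 0, 2, 3, 2, 0, 3, 0, 3, 0, 3, 3, 1, 0, 2, 3, 2, 0, 3, 0, 3, 0, 3, 3, 1, 0, 2, 3, 2, 0, 3, 0, 3, 0, 3, 3, 1, 0, 2, 3, 2, 0, 3, 0, 3, 0, 3,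 3, 1, 0, 2, 3, 2, 1, 0, 1, 0, 4, 2, 0, 2, 3, 0, 1, 3],
  [0, 1, 3, 1, 0, 1, 3, 1, 0, 1, 3, 1, 0, 1, 3, 1, 0, 1, 3, 1, 0, 1, 3, 1, 0, 1, 3, 1, 0, 1, 3, 1, 0, 1, 3, 1, 0, 1, 3, 1, 0, 1, 3, 1, 0, 1, 3, 1, 0, 1, 3, 1, 0, 1, 3, 1, 0, 1, 3, 1, 0, 1, 3, 1, 0, 2, 0, 4, 1, 4, 1, 3, 2, 4, 1, 0],
  [0, 1, 3, 1, 0, 1, 3, 1, 0, 1, 3, 1, 0, 1, 3, 1, 0, 1, 3, 1, 0, 1, 3, 1, 0, 1, 3, 1, 0, 1, 3, 1, 0, 1, 3, 1, 0, 1, 3, 1, 0, 1, 3, 1, 0, 1, 3, 1, 0, 1, 3, 1, 0, 1, 3, 1, 0, 1, 3, 1, 0, 1, 3, 1, 1, 3, 3, 1, 0, 2, 4, 0, 2, 3, 2, 4],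
  [0, 1, 3, 1, 0, 1, 3, 1, 0, 1, 3, 1, 0, 1, 3, 1, 0, 1, 3, 1, 0, 1, 3, 1, 0, 1, 3, 1, 0, 1, 3, 1, 0, 1, 3, 1, 0, 1, 3, 1, 0, 1, 3, 1, 0, 1, 3, 1, 0, 1, 3, 1, 0, 1, 3, 1, 0, 1, 3, 1, 0, 1, 3, 1, 0, 3, 0, 3, 0, 3, 3, 1, 0, 2, 3, 2, 0, 3, 0, 3, 0, 3, 3, 1, 0, 2, 3, 2, 0, 3, 0, 3, 2, 3, 2, 3, 0, 3, 2],
  [0, 1, 3, 1, 0, 1, 3, 1, 0, 1, 3, 1, 0, 1, 3, 1, 0, 1, 3, 1, 0, 1, 3, 1, 0, 1, 3, 1, 0, 1, 3, 1, 0, 1, 3, 1, 0, 1, 3, 1, 0, 1, 3, 1, 0, 1, 3, 1, 0, 1, 3, 1, 0, 1, 3, 1, 0, 1, 3, 1, 0, 1, 3, 1, 0, 3, 0, 3, 0, 3, 3, 1, 0, 2, 3, 2, 0, 3, 0, 3, 0, 3, 3, 1, 0, 2, 3, 2, 0, 3, 0, 3, 0, 3, 3, 1, 0, 2, 3, 2, 0, 3, 0, 3, 0, 3, 3, 1, 0, 2, 3, 2, 3, 0, 3, 1, 0, 2, 4, 0, 4],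
  [0, 1, 3, 1, 0, 1, 3, 1, 0, 1, 3, 1, 0, 1, 3, 1, 0, 1, 3, 1, 0, 1, 3, 1, 0, 1, 3, 1, 0, 1, 3, 1, 0, 1, 3, 1, 0, 1, 3, 1, 0, 1, 3, 1, 0, 1, 3, 1, 0, 1, 3, 1, 0, 1, 3, 1, 0, 1, 3, 1, 0, 1, 3, 1, 0, 3, 0, 3, 0, 3, 3, 1, 0, 2, 3, 2, 0, 3, 0, 3, 0, 3, 3, 1, 0, 2, 3, 2, 0, 3, 0, 3, 0, 3, 3, 1, 0, 2, 3, 2, 0, 3, 0, 3, 0, 3, 3, 1, 0, 2, 3, 2, 1, 0, 4, 0, 2, 4, 2, 4, 1, 4, 0],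
  [0, 1, 3, 1, 0, 1, 3, 1, 0, 1, 3, 1, 0, 1, 3, 1, 0, 1, 3, 1, 0, 1, 3, 1, 0, 1, 3, 1, 0, 1, 3, 1, 0, 1, 3, 1, 0, 1, 3, 1, 0, 1, 3, 1, 0, 1, 3, 1, 0, 1, 3, 1, 0, 1, 3, 1, 0, 1, 3, 1, 0, 1, 3, 1, 0, 3, 0, 3, 0, 3, 3, 1, 0, 2, 3, 2, 0, 3, 0, 3, 0, 3, 3, 1, 0, 2, 3, 2, 0, 3, 0, 3, 0, 3, 3, 1, 0, 2, 3, 2, 0, 3, 0, 3, 0, 3, 3, 1, 0, 2, 3, 2, 1, 3, 2, 3, 1, 4, 1, 4, 2],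
  [0, 1, 3, 1, 0, 1, 3, 1, 0, 1, 3, 1, 0, 1, 3, 1, 0, 1, 3, 1, 0, 1, 3, 1, 0, 1, 3, 1, 0, 1, 3, 1, 0, 1, 3, 1, 0, 1, 3, 1, 0, 1, 3, 1, 0, 1, 3, 1, 0, 1, 3, 1, 0, 1, 3, 1, 0, 1, 3, 1, 0, 1, 3, 1, 0, 3, 0, 3, 0, 3, 3, 1, 0, 2, 3, 2, 0, 3, 0, 3, 0, 3, 3, 1, 0, 2, 3, 2, 0, 3, 0, 3, 0, 3, 3, 1, 0, 2, 3, 2, 0, 3, 0, 3, 0, 3, 3, 1, 0, 2, 3, 2, 0, 3, 0, 3, 0, 3, 3, 1, 0, 2, 3, 2, 0, 3, 0, 3, 0, 3, 3, 1, 0, 2, 3, 2, 3, 2, 0, 2, 3, 3, 0, 3, 1, 3, 3, 2]]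

/-- the images of the base points under the elements of the complement -/
def HKEYS : List (List ℕ) := [
  [804, 1720, 3661],
  [804, 2655, 0],
  [804, 540, 3917],
  [804, 6008, 4777],
  [804, 98, 4373],
  [804, 4889, 142],
  [804, 2087, 5329],
  [804, 3382, 888],
  [804, 3638, 5783],
  [804, 532, 5026],
  [804, 2733, 5453],
  [804, 5137, 4107],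
  [804, 3158, 5903],
  [804, 1081, 4462],
  [804, 105, 1531],
  [804, 2884, 2363],
  [804, 168, 2737],
  [804, 1571, 1441],
  [804, 1918, 5415],
  [804, 466, 811],
  [804, 3745, 2165],
  [804, 1773, 1047],
  [804, 3745, 3033],
  [804, 1773, 2784],
  [804, 466, 3212],
  [804, 1918, 5933],
  [804, 168, 1100],
  [804, 1571, 2355],
  [804, 2884, 4015],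
  [804, 1081, 1185],
  [804, 105, 2586],
  [804, 2733, 5886],
  [804, 5137, 2563],
  [804, 3158, 404],
  [804, 532, 5658],
  [804, 3638, 5731],
  [804, 3382, 1549],
  [804, 2087, 5348],
  [804, 98, 234],
  [804, 4889, 4762],
  [804, 1720, 4888],
  [804, 2655, 4596],
  [804, 540, 2974],
  [804, 6008, 5435],
  [804, 2064, 3752],
  [804, 3292, 240],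
  [804, 4379, 1885],
  [804, 2224, 513],
  [804, 868, 4942],
  [804, 1939, 2872],
  [804, 5293, 4045],
  [804, 2729, 924],
  [804, 2729, 1363],
  [804, 868, 734],
  [804, 1939, 1680],
  [804, 5293, 1149],
  [804, 2064, 5263],
  [804, 3292, 148],
  [804, 4379, 3707],
  [804, 2224, 1906]]

/-- the words conjugating the involutions of the centralizer to the involution -/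
def CONJ : List (List ℕ) := [
  [],
  [],
  [],
  [],
  [],
  [],
  [],
  [],
  [],
  [],
  [],
  [],
  [],
  [],
  [],
  [],
  [],
  [],
  [],
  [],
  [0, 1, 3, 1, 0, 1, 3, 1, 0, 1, 3, 1, 0, 1, 3, 1, 0, 1, 3, 1, 0, 1, 3, 1, 0, 1, 3, 1, 0, 1, 3, 1, 0, 1, 3, 1, 4, 1, 4, 0, 1, 0, 4, 2, 3, 1, 4, 2, 3, 0, 4, 1, 4, 1, 4, 3, 1, 3, 1, 4, 1, 3, 4, 4, 4, 0, 3, 3, 3],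
  [],
  [],
  [],
  [],
  [],
  [],
  [],
  [],
  [],
  [],
  [],
  [],
  [0, 1, 3, 1, 0, 1, 3, 1, 0, 1, 3, 1, 0, 1, 3, 1, 0, 1, 3, 1, 4, 2, 0, 1, 4, 1, 0, 1, 0, 4, 2, 0, 2, 3, 0, 3, 3, 0, 4, 1, 0, 3, 3, 0, 4, 2, 3, 4, 4, 4, 0, 3, 3, 3],
  [],
  [],
  [],
  [],
  [],
  [],
  [],
  [],
  [],
  [],
  [],
  [],
  [],
  [],
  [],
  [],
  [],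
  [],
  [],
  [],
  [],
  [],
  [],
  [],
  [],
  [],
  [],
  [],
  [0, 1, 3, 1, 0, 1, 3, 1, 0, 1, 3, 1, 0, 1, 3, 1, 0, 1, 3, 1, 0, 2, 3, 0, 2, 0, 3, 2, 3, 0, 2, 3, 1, 3, 0, 2, 4, 1, 3, 3, 1, 3, 0, 2, 4, 4, 4, 0, 3, 3, 3],
  [2, 0, 4, 0, 3, 0, 4, 0, 3, 0, 0, 2, 3, 0, 3, 3, 0, 4, 1, 0, 3, 3, 0, 4, 2, 3, 4, 4, 4, 0, 3, 3, 3],
  [],
  [],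
  [],
  [],
  [],
  [],
  [],
  [],
  [],
  [],
  [],
  [],
  [],
  [],
  [0, 1, 3, 1, 0, 1, 3, 1, 0, 3, 0, 3, 0, 3, 3, 1, 0, 2, 3, 2, 0, 3, 0, 3, 0, 3, 3, 1, 0, 2, 3, 2, 2, 0, 3, 2, 0, 2, 0, 1, 3, 3, 1, 0, 4, 2, 4, 1, 0, 4, 1, 0, 4, 1, 0, 1, 4, 4, 4, 0, 3, 3, 3],
  [0, 1, 3, 1, 0, 1, 3, 1, 0, 1, 3, 1, 0, 1, 3, 1, 0, 1, 3, 1, 0, 2, 3, 0, 2, 0, 3, 2, 3, 3, 3, 0, 4, 1, 3, 1, 3, 3, 0, 2, 0, 2, 0, 1, 4, 4, 4, 0, 3, 3, 3],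
  [],
  [],
  [],
  [],
  [0, 1, 3, 1, 0, 1, 3, 1, 0, 1, 3, 1, 0, 1, 3, 1, 0, 1, 3, 1, 4, 2, 0, 1, 4, 1, 0, 1, 0, 4, 2, 4, 4, 4, 0, 3, 3, 3],
  [],
  [],
  [],
  [],
  [],
  [],
  [0, 1, 3, 1, 0, 1, 3, 1, 0, 1, 3, 1, 0, 1, 3, 1, 3, 0, 4, 1, 0, 3, 2, 4, 1, 3, 1, 4, 0, 3, 1, 4, 2, 0, 2, 0, 1, 0, 3, 1, 0, 3, 4, 4, 4, 0, 3, 3, 3],
  [],
  [],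
  [],
  [],
  [],
  [],
  [0, 1, 3, 1, 0, 1, 3, 1, 0, 1, 3, 1, 0, 1, 3, 1, 0, 1, 3, 1, 4, 2, 0, 1, 4, 1, 0, 1, 0, 4, 2, 1, 3, 0, 2, 0, 2, 3, 2, 0, 1, 3, 0, 2, 0, 2, 0, 3, 2, 4, 4, 4, 0, 3, 3, 3],
  [],
  [],
  [],
  [],
  [],
  [],
  [],
  [],
  [2, 0, 4, 0, 3, 0, 4, 0, 3, 0, 0, 2, 3, 1, 3, 0, 2, 4, 1, 3, 3, 1, 3, 0, 2, 4, 4, 4, 0, 3, 3, 3],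
  [],
  [],
  [],
  [],
  [],
  [],
  [],
  [],
  [0, 1, 3, 1, 1, 3, 1, 3, 3, 2, 3, 3, 2, 4, 2, 4, 4, 4, 0, 3, 3, 3],
  [],
  [2, 0, 4, 0, 3, 0, 4, 0, 3, 0, 1, 3, 0, 2, 0, 2, 3, 2, 0, 1, 3, 0, 2, 0, 2, 0, 3, 2, 4, 4, 4, 0, 3, 3, 3],
  [],
  [],
  [],
  [0, 1, 3, 1, 0, 1, 3, 1, 0, 1, 3, 1, 0, 1, 3, 1, 0, 1, 3, 1, 0, 1, 3, 1, 0, 1, 3, 1, 1, 3, 2, 3, 2, 4, 1, 4, 2, 0, 2, 3, 1, 3, 0, 2, 4, 1, 3, 3, 1, 3, 0, 2, 4, 4, 4, 0, 3, 3, 3],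
  [],
  [],
  [],
  [],
  [],
  [],
  [],
  [],
  [],
  [],
  [],
  [],
  [],
  [],
  [],
  [],
  [],
  [],
  [],
  [],
  [],
  [],
  [],
  [],
  [],
  [],
  [],
  [],
  [],
  [],
  [],
  [],
  [],
  [],
  [],
  [],
  [],
  [],
  [],
  [],
  [],
  [],
  [],
  [],
  [],
  [],
  [],
  [],
  [],
  [],
  [],
  [],
  [],
  [4, 1, 3, 2, 3, 3, 1, 4, 2, 3, 3, 1, 0, 4, 2, 4, 1, 0, 4, 1, 0, 4, 1, 0, 1, 4, 4, 4, 0, 3, 3, 3],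
  [0, 1, 3, 1, 4, 0, 2, 4, 2, 0, 3, 3, 0, 1, 0, 4, 3, 3, 3, 1, 1, 0],
  [],
  [],
  [],
  [],
  [],
  [],
  [],
  [],
  [],
  [],
  [],
  [],
  [],
  [],
  [],
  [],
  [],
  [],
  [2, 0, 4, 0, 3, 0, 4, 0, 3, 0, 4, 2, 3, 0, 4, 1, 4, 1, 4, 3, 1, 3, 1, 4, 1, 3, 4, 4, 4, 0, 3, 3, 3],
  [],
  [],
  [],
  [],
  [],
  [],
  [],
  [],
  [],
  [],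
  [],
  [],
  [],
  [],
  [],
  [],
  [],
  [],
  [],
  [],
  [],
  [],
  [],
  [],
  [],
  [],
  [],
  [],
  [],
  [],
  [],
  [],
  [4, 1, 3, 2, 3, 3, 1, 4, 2, 3, 3, 3, 0, 4, 1, 3, 1, 3, 3, 0, 2, 0, 2, 0, 1, 4, 4, 4, 0, 3, 3, 3],
  [],
  [],
  [1, 3, 1, 4, 2, 0, 3, 0, 1, 4, 2, 1, 3, 0, 2, 0, 2, 3, 2, 0, 1, 3, 0, 2, 0, 2, 0, 3, 2, 4, 4, 4, 0, 3, 3, 3],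
  [],
  [],
  [],
  [],
  [],
  [],
  [],
  [],
  [],
  [],
  [0, 1, 3, 1, 0, 1, 3, 1, 0, 1, 3, 1, 0, 1, 3, 1, 0, 1, 3, 1, 4, 2, 0, 1, 4, 1, 0, 1, 0, 4, 2, 3, 3, 0, 4, 1, 3, 1, 3, 3, 0, 2, 0, 2, 0, 1, 4, 4, 4, 0, 3, 3, 3],
  [],
  [],
  [],
  [],
  [],
  [],
  [],
  [],
  [],
  [],
  [],
  [],
  [],
  [],
  [],
  [],
  [0, 3, 0, 3, 0, 3, 3, 1, 0, 2, 3, 2, 0, 3, 0, 3, 0, 3, 3, 1, 0, 2, 3, 2, 0, 3, 0, 3, 0, 3, 3, 1, 0, 2, 3, 2, 0, 3, 0, 3, 0, 3, 3, 1, 0, 2, 3, 2, 4, 2, 0, 1, 0, 1, 4, 0, 4, 2, 0, 4, 2, 3, 0, 4, 1, 4, 1, 4, 3, 1, 3, 1, 4, 1, 3, 4, 4, 4, 0, 3, 3, 3],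
  [],
  [],
  [],
  [],
  [],
  [],
  [],
  [],
  [],
  [],
  [],
  [],
  [],
  [],
  [],
  [],
  [],
  [],
  [],
  [],
  [],
  [],
  [],
  [],
  [],
  [],
  [],
  [],
  [],
  [],
  [],
  [],
  [],
  [],
  [],
  [],
  [],
  [],
  [],
  [],
  [],
  [],
  [],
  [],
  [],
  [1, 3, 1, 4, 2, 0, 3, 0, 1, 4, 2, 0, 2, 3, 1, 3, 0, 2, 4, 1, 3, 3, 1, 3, 0, 2, 4, 4, 4, 0, 3, 3, 3],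
  [],
  [0, 1, 3, 1, 0, 1, 3, 1, 0, 3, 0, 3, 0, 3, 3, 1, 0, 2, 3, 2, 0, 3, 0, 3, 0, 3, 3, 1, 0, 2, 3, 2, 2, 0, 3, 2, 0, 2, 0, 1, 3, 4, 2, 3, 0, 4, 1, 4, 1, 4, 3, 1, 3, 1, 4, 1, 3, 4, 4, 4, 0, 3, 3, 3],
  [],
  [],
  [],
  [],
  [3, 1, 0, 4, 2, 4, 1, 0, 4, 1, 0, 4, 1, 0, 1, 4, 4, 4, 0, 3, 3, 3],
  [],
  [],
  [],
  [],
  [],
  [0, 1, 3, 1, 0, 1, 3, 1, 0, 1, 3, 1, 0, 1, 3, 1, 0, 1, 3, 1, 0, 2, 3, 0, 2, 0, 3, 2, 3, 2, 0, 3, 2, 0, 2, 0, 1, 3, 3, 1, 0, 1, 0, 4, 2, 4, 4, 4, 0, 3, 3, 3],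
  [],
  [],
  [],
  [],
  [],
  [],
  [],
  [],
  [],
  [],
  [],
  [],
  [],
  [],
  [],
  [],
  [],
  [],
  [],
  [],
  [],
  [],
  [],
  [],
  [],
  [],
  [],
  [],
  [],
  [],
  [],
  [],
  [],
  [],
  [],
  [],
  [0, 1, 3, 1, 0, 1, 3, 1, 0, 1, 3, 1, 0, 1, 3, 1, 0, 1, 3, 1, 0, 1, 3, 1, 0, 3, 3, 2, 0, 4, 0, 2, 0, 4, 4, 4, 0, 3, 3, 3],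
  [],
  [],
  [],
  [],
  [],
  [],
  [],
  [],
  [],
  [],
  [0, 1, 3, 1, 0, 1, 3, 1, 0, 1, 3, 1, 0, 1, 3, 1, 0, 1, 3, 1, 0, 1, 3, 1, 0, 3, 3, 2, 0, 4, 0, 2, 0, 0, 2, 3, 0, 3, 3, 0, 4, 1, 0, 3, 3, 0, 4, 2, 3, 4, 4, 4, 0, 3, 3, 3],
  [],
  [],
  [],
  [],
  [],
  [],
  [],
  [],
  [],
  [],
  [],
  [],
  [],
  [],
  [],
  [],
  [],
  [],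
  [],
  [],
  [],
  [],
  [0, 1, 3, 1, 0, 1, 3, 1, 0, 1, 3, 1, 0, 1, 3, 1, 0, 1, 3, 1, 0, 1, 3, 1, 3, 3, 0, 4, 1, 3, 1, 3, 3, 1, 0, 2, 4, 0, 4, 2, 3, 3, 1, 1, 0, 2, 3, 0, 2, 3, 1, 4, 4, 4, 0, 3, 3, 3],
  [],
  [],
  [],
  [],
  [],
  [],
  [],
  [],
  [],
  [],
  [],
  [],
  [],
  [],
  [],
  [],
  [],
  [],
  [],
  [],
  [],
  [],
  [],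
  [],
  [],
  [],
  [3, 3, 0, 4, 1, 3, 1, 3, 3, 0, 2, 0, 2, 0, 1, 4, 4, 4, 0, 3, 3, 3],
  [],
  [],
  [],
  [],
  [],
  [],
  [],
  [],
  [],
  [],
  [],
  [],
  [],
  [],
  [],
  [],
  [],
  [],
  [],
  [],
  [],
  [],
  [],
  [],
  [],
  [],
  [],
  [],
  [],
  [],
  [],
  [],
  [],
  [],
  [],
  [],
  [],
  [2, 0, 4, 0, 3, 0, 4, 0, 3, 0, 3, 1, 0, 4, 2, 4, 1, 0, 4, 1, 0, 4, 1, 0, 1, 4, 4, 4, 0, 3, 3, 3],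
  [],
  [],
  [],
  [],
  [],
  [],
  [],
  [],
  [0, 1, 3, 1, 4, 0, 2, 4, 2, 0, 3, 3, 0, 1, 0, 4, 1, 0, 2, 4, 0, 4, 2, 3, 3, 1, 1, 0, 2, 3, 0, 2, 3, 1, 4, 4, 4, 0, 3, 3, 3],
  [],
  [],
  [],
  [],
  [],
  [],
  [],
  [],
  [],
  [],
  [],
  [],
  [],
  [],
  [],
  [],
  [],
  [],
  [],
  [],
  [],
  [],
  [],
  [],
  [],
  [],
  [],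
  [],
  [0, 1, 3, 1, 0, 1, 3, 1, 0, 1, 3, 1, 0, 1, 3, 1, 0, 1, 3, 1, 0, 1, 3, 1, 3, 3, 0, 4, 1, 3, 1, 3, 3, 3, 3, 0, 4, 1, 3, 1, 3, 3, 0, 2, 0, 2, 0, 1, 4, 4, 4, 0, 3, 3, 3],
  [],
  [],
  [],
  [],
  [],
  [],
  [],
  [],
  [],
  [],
  [],
  [],
  [],
  [],
  [],
  [],
  [],
  [],
  [],
  [],
  [],
  [],
  [],
  [0, 1, 3, 1, 0, 3, 0, 3, 0, 3, 3, 1, 0, 2, 3, 2, 0, 3, 0, 3, 0, 3, 3, 1, 0, 2, 3, 2, 1, 4, 0, 3, 1, 4, 2, 0, 2, 0, 2, 3, 0, 3, 3, 0, 4, 1, 0, 3, 3, 0, 4, 2, 3, 4, 4, 4, 0, 3, 3, 3],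
  [],
  [],
  [],
  [],
  [0, 1, 3, 1, 0, 1, 3, 1, 0, 1, 3, 1, 0, 1, 3, 1, 0, 1, 3, 1, 0, 1, 3, 1, 0, 1, 3, 1, 0, 1, 3, 1, 0, 1, 3, 1, 1, 4, 0, 1, 4, 1, 4, 1, 0, 1, 0, 1, 3, 0, 2, 0, 2, 3, 2, 0, 1, 3, 0, 2, 0, 2, 0, 3, 2, 4, 4, 4, 0, 3, 3, 3],
  [],
  [],
  [],
  [],
  [],
  [],
  [],
  [],
  [],
  [4, 1, 3, 2, 3, 3, 1, 4, 2, 3, 4, 2, 3, 0, 4, 1, 4, 1, 4, 3, 1, 3, 1, 4, 1, 3, 4, 4, 4, 0, 3, 3, 3],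
  [],
  [],
  [],
  [],
  [],
  [],
  [],
  [],
  [],
  [],
  [],
  [],
  [],
  [],
  [],
  [],
  [],
  [],
  [],
  [],
  [],
  [],
  [],
  [],
  [],
  [],
  [],
  [],
  [],
  [],
  [],
  [0, 1, 3, 1, 1, 3, 1, 3, 3, 2, 3, 3, 2, 4, 2, 0, 1, 3, 1, 2, 0, 4, 0, 3, 0, 4, 0, 3, 0, 1, 4, 2, 0, 4, 4, 4, 0, 3, 3, 3],
  [],
  [],
  [],
  [],
  [],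
  [],
  [],
  [],
  [],
  [],
  [],
  [1, 3, 0, 2, 0, 2, 3, 2, 0, 1, 3, 0, 2, 0, 2, 0, 3, 2, 4, 4, 4, 0, 3, 3, 3],
  [],
  [],
  [],
  [],
  [],
  [],
  [],
  [],
  [],
  [],
  [],
  [],
  [],
  [],
  [],
  [],
  [],
  [],
  [],
  [],
  [],
  [],
  [],
  [],
  [],
  [],
  [],
  [],
  [],
  [],
  [],
  [],
  [],
  [],
  [],
  [],
  [],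
  [],
  [1, 3, 1, 4, 2, 0, 3, 0, 1, 4, 2, 1, 0, 2, 4, 0, 4, 2, 3, 3, 1, 1, 0, 2, 3, 0, 2, 3, 1, 4, 4, 4, 0, 3, 3, 3],
  [],
  [],
  [],
  [],
  [],
  [3, 1, 0, 4, 2, 4, 1, 0, 4, 1, 0, 4, 1, 0, 1, 3, 3, 3, 1, 1, 0],
  [],
  [],
  [],
  [],
  [0, 1, 3, 1, 0, 1, 3, 1, 0, 1, 3, 1, 0, 1, 3, 1, 0, 1, 3, 1, 0, 1, 3, 1, 0, 3, 3, 2, 0, 4, 0, 2, 0, 4, 2, 0, 1, 0, 1, 4, 0, 4, 2, 0, 2, 3, 1, 4, 0, 3, 4, 4, 4, 0, 3, 3, 3],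
  [],
  [],
  [],
  [],
  [],
  [],
  [],
  [],
  [0, 1, 3, 1, 0, 1, 3, 1, 0, 3, 0, 3, 0, 3, 3, 1, 0, 2, 3, 2, 0, 3, 0, 3, 0, 3, 3, 1, 0, 2, 3, 2, 0, 3, 3, 1, 3, 0, 3, 0, 1, 4, 2, 0, 1, 0, 1, 4, 0, 4, 2, 0, 2, 3, 1, 4, 0, 3, 4, 4, 4, 0, 3, 3, 3],
  [],
  [],
  [],
  [],
  [],
  [],
  [],
  [],
  [],
  [],
  [1, 3, 1, 4, 2, 0, 3, 0, 1, 4, 2, 1, 3, 0, 2, 0, 2, 3, 2, 0, 1, 3, 0, 1, 4, 1, 0, 4, 0, 1, 4, 4, 4, 0, 3, 3, 3],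
  [],
  [],
  [],
  [],
  [],
  [],
  [],
  [],
  [],
  [],
  [],
  [],
  [],
  [],
  [0, 1, 3, 1, 0, 1, 3, 1, 0, 1, 3, 1, 0, 1, 3, 1, 0, 1, 3, 1, 0, 1, 3, 1, 0, 3, 0, 3, 0, 3, 3, 1, 0, 2, 3, 2, 0, 3, 0, 3, 0, 3, 3, 1, 0, 2, 3, 2, 4, 0, 3, 2, 3, 3, 0, 2, 3, 1, 0, 2, 3, 0, 3, 3, 0, 4, 1, 0, 3, 3, 0, 4, 2, 3, 4, 4, 4, 0, 3, 3, 3],
  [],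
  [],
  [0, 1, 3, 1, 0, 1, 3, 1, 0, 1, 3, 1, 0, 1, 3, 1, 0, 1, 3, 1, 0, 1, 3, 1, 0, 1, 3, 1, 0, 1, 3, 1, 0, 1, 3, 1, 4, 1, 4, 0, 1, 0, 4, 2, 3, 1, 1, 0, 2, 4, 0, 4, 2, 3, 3, 1, 1, 0, 2, 3, 0, 2, 3, 1, 4, 4, 4, 0, 3, 3, 3],
  [],
  [],
  [],
  [],
  [],
  [],
  [],
  [],
  [],
  [],
  [],
  [],
  [],
  [],
  [],
  [],
  [],
  [],
  [],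
  [],
  [],
  [],
  [],
  [],
  [],
  [],
  [],
  [],
  [0, 2, 3, 0, 3, 3, 0, 4, 1, 0, 3, 3, 0, 4, 2, 3, 4, 4, 4, 0, 3, 3, 3],
  [],
  [],
  [],
  [],
  [],
  [],
  [],
  [0, 1, 3, 1, 4, 0, 2, 4, 2, 0, 3, 3, 0, 1, 0, 4, 2, 0, 3, 2, 0, 2, 0, 1, 3, 3, 1, 0, 1, 0, 4, 2, 4, 4, 4, 0, 3, 3, 3],
  [],
  [],
  [],
  [],
  [],
  [],
  [],
  [],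
  [],
  [],
  [],
  [],
  [],
  [],
  [],
  [],
  [],
  [],
  [],
  [],
  [],
  [],
  [],
  [],
  [],
  [],
  [],
  [],
  [],
  [],
  [],
  [],
  [],
  [],
  [],
  [],
  [],
  [],
  [],
  [],
  [],
  [],
  [],
  [0, 1, 3, 1, 4, 0, 2, 4, 2, 0, 3, 3, 0, 1, 0, 4, 1, 4, 0, 3, 1, 4, 2, 0, 2, 0, 1, 0, 3, 1, 0, 3, 4, 4, 4, 0, 3, 3, 3],
  [],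
  [],
  [],
  [],
  [],
  [],
  [],
  [],
  [],
  [],
  [],
  [],
  [],
  [],
  [],
  [],
  [],
  [],
  [],
  [],
  [],
  [],
  [],
  [],
  [],
  [],
  [0, 1, 3, 1, 0, 1, 3, 1, 0, 1, 3, 1, 0, 1, 3, 1, 3, 0, 4, 1, 0, 3, 2, 4, 1, 3, 4, 4, 4, 0, 3, 3, 3],
  [],
  [],
  [],
  [],
  [],
  [],
  [],
  [0, 1, 3, 1, 4, 0, 2, 4, 2, 0, 3, 3, 0, 1, 0, 4, 1, 3, 0, 2, 0, 2, 3, 2, 0, 1, 3, 0, 1, 4, 1, 0, 4, 0, 1, 4, 4, 4, 0, 3, 3, 3],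
  [],
  [],
  [],
  [],
  [],
  [],
  [],
  [],
  [],
  [],
  [],
  [],
  [],
  [],
  [],
  [0, 1, 3, 1, 0, 1, 3, 1, 0, 1, 3, 1, 0, 1, 3, 1, 0, 1, 3, 1, 4, 2, 0, 1, 4, 1, 0, 1, 0, 4, 2, 0, 2, 3, 1, 3, 0, 2, 4, 1, 3, 3, 1, 3, 0, 2, 4, 4, 4, 0, 3, 3, 3],
  [],
  [],
  [],
  [],
  [0, 1, 3, 1, 0, 1, 3, 1, 0, 1, 3, 1, 0, 1, 3, 1, 3, 0, 4, 1, 0, 3, 2, 4, 1, 3, 0, 2, 3, 0, 3, 3, 0, 4, 1, 0, 3, 3, 0, 4, 2, 3, 4, 4, 4, 0, 3, 3, 3],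
  [],
  [0, 1, 3, 1, 1, 3, 1, 3, 3, 2, 3, 3, 2, 4, 2, 0, 2, 3, 0, 3, 3, 0, 4, 1, 0, 3, 3, 0, 4, 2, 3, 4, 4, 4, 0, 3, 3, 3],
  [],
  [],
  [],
  [],
  [],
  [],
  [],
  [],
  [],
  [],
  [],
  [],
  [],
  [],
  [],
  [],
  [],
  [],
  [],
  [],
  [],
  [],
  [],
  [],
  [],
  [],
  [],
  [],
  [],
  [],
  [],
  [],
  [],
  [],
  [],
  [],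
  [],
  [],
  [],
  [0, 1, 3, 1, 4, 0, 2, 4, 2, 0, 3, 3, 0, 1, 0, 4, 1, 3, 0, 2, 0, 2, 3, 2, 0, 1, 3, 0, 2, 0, 2, 0, 3, 2, 4, 4, 4, 0, 3, 3, 3],
  [],
  [],
  [],
  [],
  [],
  [],
  [],
  [],
  [],
  [],
  [],
  [],
  [],
  [],
  [],
  [],
  [],
  [],
  [],
  [],
  [],
  [],
  [],
  [0, 1, 3, 1, 0, 1, 3, 1, 0, 1, 3, 1, 0, 1, 3, 1, 0, 3, 0, 3, 0, 3, 3, 1, 0, 2, 3, 2, 0, 3, 0, 3, 0, 3, 3, 1, 0, 2, 3, 2, 1, 4, 0, 3, 0, 1, 3, 0, 3, 0, 0, 2, 3, 0, 3, 3, 0, 4, 1, 0, 3, 3, 0, 4, 2, 3, 4, 4, 4, 0, 3, 3, 3],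
  [],
  [],
  [],
  [],
  [],
  [],
  [],
  [],
  [],
  [],
  [],
  [],
  [],
  [],
  [],
  [],
  [4, 1, 3, 2, 3, 3, 1, 4, 2, 3, 4, 4, 4, 0, 3, 3, 3],
  [],
  [],
  [],
  [],
  [],
  [],
  [],
  [],
  [],
  [],
  [],
  [],
  [],
  [],
  [],
  [0, 1, 3, 1, 4, 0, 2, 4, 2, 0, 3, 3, 0, 1, 0, 4, 4, 2, 3, 0, 4, 1, 4, 1, 4, 3, 1, 3, 1, 4, 1, 3, 4, 4, 4, 0, 3, 3, 3],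
  [],
  [],
  [],
  [],
  [],
  [],
  [],
  [],
  [],
  [],
  [],
  [],
  [],
  [],
  [],
  [],
  [],
  [],
  [],
  [],
  [],
  [],
  [],
  [],
  [],
  [],
  [],
  [],
  [],
  [],
  [4, 2, 3, 0, 4, 1, 4, 1, 4, 3, 1, 3, 1, 4, 1, 3, 3, 3, 3, 1, 1, 0],
  [],
  [],
  [],
  [],
  [],
  [],
  [],
  [],
  [],
  [0, 1, 3, 1, 4, 0, 2, 4, 2, 0, 3, 3, 0, 1, 0, 4, 3, 3, 0, 4, 1, 3, 1, 3, 3, 0, 2, 0, 2, 0, 1, 4, 4, 4, 0, 3, 3, 3],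
  [],
  [],
  [],
  [],
  [],
  [1, 3, 1, 4, 2, 0, 3, 0, 1, 4, 2, 3, 3, 3, 1, 1, 0],
  [],
  [],
  [],
  [],
  [],
  [],
  [],
  [],
  [],
  [0, 3, 0, 3, 0, 3, 3, 1, 0, 2, 3, 2, 0, 3, 0, 3, 0, 3, 3, 1, 0, 2, 3, 2, 0, 1, 0, 1, 0, 3, 3, 0, 1, 3, 1, 3, 0, 2, 3, 0, 3, 3, 0, 4, 1, 0, 3, 3, 0, 4, 2, 3, 4, 4, 4, 0, 3, 3, 3],
  [],
  [],
  [],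
  [],
  [],
  [],
  [0, 1, 3, 1, 0, 1, 3, 1, 0, 1, 3, 1, 0, 1, 3, 1, 0, 1, 3, 1, 4, 2, 0, 1, 4, 1, 0, 1, 0, 4, 2, 4, 2, 3, 0, 4, 1, 4, 1, 4, 3, 1, 3, 1, 4, 1, 3, 4, 4, 4, 0, 3, 3, 3],
  [],
  [1, 3, 0, 2, 0, 2, 3, 2, 0, 1, 3, 0, 1, 4, 1, 0, 4, 0, 1, 4, 4, 4, 0, 3, 3, 3],
  [],
  [],
  [],
  [0, 1, 3, 1, 0, 1, 3, 1, 0, 1, 3, 1, 0, 1, 3, 1, 0, 1, 3, 1, 0, 1, 3, 1, 0, 1, 3, 1, 2, 3, 0, 3, 0, 2, 3, 2, 3, 1, 3, 3, 1, 0, 4, 2, 4, 1, 0, 4, 1, 0, 4, 1, 0, 1, 4, 4, 4, 0, 3, 3, 3],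
  [],
  [],
  [],
  [],
  [],
  [],
  [],
  [],
  [],
  [],
  [],
  [],
  [],
  [],
  [0, 1, 3, 1, 1, 3, 1, 3, 3, 2, 3, 3, 2, 4, 2, 1, 4, 0, 3, 1, 4, 2, 0, 2, 0, 1, 0, 3, 1, 0, 3, 4, 4, 4, 0, 3, 3, 3],
  [],
  [],
  [],
  [],
  [],
  [],
  [],
  [],
  [],
  [],
  [],
  [],
  [],
  [],
  [],
  [],
  [],
  [],
  [],
  [],
  [],
  [],
  [],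
  [],
  [],
  [],
  [0, 3, 0, 3, 0, 3, 3, 1, 0, 2, 3, 2, 0, 3, 0, 3, 0, 3, 3, 1, 0, 2, 3, 2, 1, 4, 0, 3, 1, 4, 2, 0, 2, 1, 0, 1, 0, 1, 0, 3, 4, 4, 4, 0, 3, 3, 3],
  [],
  [],
  [],
  [],
  [],
  [],
  [],
  [],
  [],
  [],
  [],
  [],
  [],
  [],
  [],
  [],
  [],
  [],
  [],
  [],
  [],
  [],
  [],
  [],
  [],
  [],
  [],
  [],
  [],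
  [],
  [],
  [0, 1, 3, 1, 0, 1, 3, 1, 0, 1, 3, 1, 0, 1, 3, 1, 0, 1, 3, 1, 0, 1, 3, 1, 3, 3, 0, 4, 1, 3, 1, 3, 3, 4, 2, 3, 0, 4, 1, 4, 1, 4, 3, 1, 3, 1, 4, 1, 3, 4, 4, 4, 0, 3, 3, 3],
  [],
  [],
  [0, 1, 3, 1, 0, 1, 3, 1, 0, 1, 3, 1, 0, 1, 3, 1, 0, 3, 0, 3, 0, 3, 3, 1, 0, 2, 3, 2, 0, 3, 0, 3, 0, 3, 3, 1, 0, 2, 3, 2, 1, 4, 0, 3, 0, 1, 3, 0, 3, 0, 3, 1, 0, 4, 2, 4, 1, 0, 4, 1, 0, 4, 1, 0, 1, 4, 4, 4, 0, 3, 3, 3],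
  [],
  [],
  [],
  [],
  [],
  [],
  [],
  [],
  [],
  [],
  [],
  [],
  [],
  [],
  [],
  [],
  [],
  [],
  [],
  [],
  [],
  [],
  [],
  [],
  [],
  [],
  [],
  [],
  [],
  [],
  [],
  [],
  [],
  [],
  [],
  [],
  [],
  [],
  [],
  [],
  [],
  [],
  [],
  [],
  [],
  [],
  [],
  [],
  [0, 1, 3, 1, 0, 3, 0, 3, 0, 3, 3, 1, 0, 2, 3, 2, 0, 3, 0, 3, 0, 3, 3, 1, 0, 2, 3, 2, 1, 4, 0, 3, 1, 4, 2, 0, 2, 1, 4, 0, 3, 1, 4, 2, 0, 2, 0, 1, 0, 3, 1, 0, 3, 4, 4, 4, 0, 3, 3, 3],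
  [],
  [],
  [],
  [],
  [],
  [0, 1, 3, 1, 0, 1, 3, 1, 0, 1, 3, 1, 0, 1, 3, 1, 0, 1, 3, 1, 4, 2, 0, 1, 4, 1, 0, 1, 0, 4, 2, 1, 4, 0, 3, 1, 4, 2, 0, 2, 0, 1, 0, 3, 1, 0, 3, 4, 4, 4, 0, 3, 3, 3],
  [],
  [],
  [],
  [],
  [],
  [],
  [],
  [0, 1, 3, 1, 0, 1, 3, 1, 0, 3, 0, 3, 0, 3, 3, 1, 0, 2, 3, 2, 0, 3, 0, 3, 0, 3, 3, 1, 0, 2, 3, 2, 2, 0, 3, 2, 0, 2, 0, 1, 3, 1, 3, 0, 2, 0, 2, 3, 2, 0, 1, 3, 0, 1, 4, 1, 0, 4, 0, 1, 4, 4, 4, 0, 3, 3, 3],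
  [],
  [],
  [],
  [],
  [],
  [],
  [],
  [],
  [],
  [],
  [],
  [],
  [0, 1, 3, 1, 0, 1, 3, 1, 0, 1, 3, 1, 0, 1, 3, 1, 3, 0, 4, 1, 0, 3, 2, 4, 1, 3, 3, 3, 0, 4, 1, 3, 1, 3, 3, 0, 2, 0, 2, 0, 1, 4, 4, 4, 0, 3, 3, 3],
  [],
  [],
  [],
  [],
  [],
  [],
  [1, 3, 1, 4, 2, 0, 3, 0, 1, 4, 2, 3, 1, 0, 4, 2, 4, 1, 0, 4, 1, 0, 4, 1, 0, 1, 4, 4, 4, 0, 3, 3, 3],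
  [],
  [],
  [],
  [0, 1, 3, 1, 1, 3, 1, 3, 3, 2, 3, 3, 2, 4, 2, 1, 0, 2, 4, 0, 4, 2, 3, 3, 1, 1, 0, 2, 3, 0, 2, 3, 1, 4, 4, 4, 0, 3, 3, 3],
  [],
  [],
  [],
  [],
  [],
  [1, 3, 1, 4, 2, 0, 3, 0, 1, 4, 2, 4, 2, 3, 0, 4, 1, 4, 1, 4, 3, 1, 3, 1, 4, 1, 3, 4, 4, 4, 0, 3, 3, 3],
  [],
  [],
  [],
  [],
  [],
  [],
  [1, 0, 2, 4, 0, 4, 2, 3, 3, 1, 1, 0, 2, 3, 0, 2, 3, 1, 4, 4, 4, 0, 3, 3, 3],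
  [],
  [],
  [],
  [],
  [],
  [],
  [],
  [],
  [],
  [],
  [],
  [],
  [],
  [],
  [],
  [],
  [],
  [],
  [],
  [],
  [],
  [],
  [0, 1, 3, 1, 0, 1, 3, 1, 0, 1, 3, 1, 0, 1, 3, 1, 0, 1, 3, 1, 0, 1, 3, 1, 0, 1, 3, 1, 0, 4, 1, 0, 1, 3, 1, 4, 0, 3, 2, 0, 4, 2, 0, 1, 0, 1, 4, 0, 4, 2, 0, 2, 3, 1, 4, 0, 3, 4, 4, 4, 0, 3, 3, 3],
  [],
  [2, 0, 4, 0, 3, 0, 4, 0, 3, 0, 4, 4, 4, 0, 3, 3, 3],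
  [],
  [],
  [],
  [],
  [1, 4, 0, 3, 1, 4, 2, 0, 2, 0, 1, 0, 3, 1, 0, 3, 4, 4, 4, 0, 3, 3, 3],
  [],
  [],
  [],
  [],
  [],
  [0, 3, 0, 3, 0, 3, 3, 1, 0, 2, 3, 2, 0, 3, 0, 3, 0, 3, 3, 1, 0, 2, 3, 2, 0, 1, 4, 1, 3, 1, 3, 2, 0, 2, 0, 0, 2, 3, 0, 3, 3, 0, 4, 1, 0, 3, 3, 0, 4, 2, 3, 4, 4, 4, 0, 3, 3, 3],
  [],
  [],
  [],
  [],
  [],
  [],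
  [],
  [],
  [],
  [],
  [],
  [],
  [],
  [],
  [],
  [],
  [],
  [],
  [],
  [],
  [1, 3, 1, 4, 2, 0, 3, 0, 1, 4, 2, 4, 4, 4, 0, 3, 3, 3],
  [],
  [],
  [],
  [],
  [],
  [],
  [],
  [],
  [],
  [],
  [],
  [],
  [1, 3, 1, 4, 2, 0, 3, 0, 1, 4, 2, 2, 0, 3, 2, 0, 2, 0, 1, 3, 3, 1, 0, 1, 0, 4, 2, 4, 4, 4, 0, 3, 3, 3],
  [],
  [0, 1, 3, 1, 0, 1, 3, 1, 0, 1, 3, 1, 0, 1, 3, 1, 3, 0, 4, 1, 0, 3, 2, 4, 1, 3, 2, 0, 3, 2, 0, 2, 0, 1, 3, 3, 1, 0, 1, 0, 4, 2, 4, 4, 4, 0, 3, 3, 3],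
  [],
  [],
  [],
  [],
  [],
  [],
  [],
  [],
  [],
  [],
  [],
  [],
  [],
  [4, 1, 3, 2, 3, 3, 1, 4, 2, 3, 0, 2, 3, 0, 3, 3, 0, 4, 1, 0, 3, 3, 0, 4, 2, 3, 4, 4, 4, 0, 3, 3, 3],
  [],
  [],
  [],
  [2, 0, 3, 2, 0, 2, 0, 1, 3, 3, 1, 0, 1, 0, 4, 2, 3, 3, 3, 1, 1, 0],
  [],
  [],
  [],
  [],
  [],
  [],
  [],
  [],
  [],
  [],
  [],
  [],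
  [0, 1, 3, 1, 0, 1, 3, 1, 0, 1, 3, 1, 0, 1, 3, 1, 0, 1, 3, 1, 0, 1, 3, 1, 0, 3, 3, 2, 0, 4, 0, 2, 0, 3, 1, 0, 4, 2, 4, 1, 0, 4, 1, 0, 4, 1, 0, 1, 4, 4, 4, 0, 3, 3, 3],
  [],
  [],
  [],
  [],
  [],
  [],
  [],
  [],
  [],
  [0, 1, 3, 1, 0, 1, 3, 1, 0, 1, 3, 1, 0, 1, 3, 1, 0, 1, 3, 1, 0, 1, 3, 1, 0, 1, 3, 1, 0, 1, 3, 1, 0, 1, 3, 1, 4, 1, 4, 0, 1, 0, 4, 2, 3, 1, 0, 2, 3, 1, 3, 0, 2, 4, 1, 3, 3, 1, 3, 0, 2, 4, 4, 4, 0, 3, 3, 3],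
  [],
  [],
  [],
  [],
  [],
  [],
  [],
  [],
  [],
  [],
  [],
  [],
  [],
  [],
  [],
  [],
  [],
  [],
  [],
  [],
  [],
  [],
  [],
  [],
  [],
  [],
  [],
  [],
  [],
  [],
  [],
  [],
  [],
  [],
  [],
  [],
  [],
  [],
  [],
  [0, 1, 3, 1, 0, 1, 3, 1, 0, 1, 3, 1, 0, 1, 3, 1, 0, 1, 3, 1, 0, 2, 3, 0, 2, 0, 3, 2, 3, 4, 2, 3, 0, 4, 1, 4, 1, 4, 3, 1, 3, 1, 4, 1, 3, 4, 4, 4, 0, 3, 3, 3],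
  [],
  [],
  [],
  [],
  [],
  [],
  [],
  [],
  [],
  [],
  [0, 1, 3, 1, 0, 1, 3, 1, 0, 1, 3, 1, 0, 1, 3, 1, 0, 1, 3, 1, 0, 1, 3, 1, 0, 1, 3, 1, 0, 2, 3, 1, 4, 1, 3, 0, 3, 3, 1, 0, 3, 3, 0, 4, 1, 3, 1, 3, 3, 0, 2, 0, 2, 0, 1, 4, 4, 4, 0, 3, 3, 3],
  [],
  [],
  [],
  [],
  [],
  [],
  [],
  [],
  [],
  [],
  [],
  [],
  [],
  [],
  [],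
  [],
  [],
  [],
  [],
  [],
  [4, 2, 3, 0, 4, 1, 4, 1, 4, 3, 1, 3, 1, 4, 1, 3, 4, 4, 4, 0, 3, 3, 3],
  [],
  [],
  [],
  [],
  [],
  [],
  [],
  [0, 1, 3, 1, 0, 1, 3, 1, 0, 1, 3, 1, 0, 1, 3, 1, 3, 0, 4, 1, 0, 3, 2, 4, 1, 3, 1, 3, 0, 2, 0, 2, 3, 2, 0, 1, 3, 0, 1, 4, 1, 0, 4, 0, 1, 4, 4, 4, 0, 3, 3, 3],
  [],
  [],
  [],
  [],
  [],
  [],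
  [],
  [4, 4, 4, 0, 3, 3, 3],
  [],
  [],
  [],
  [],
  [],
  [],
  [],
  [],
  [],
  [],
  [],
  [4, 1, 3, 2, 3, 3, 1, 4, 2, 3, 1, 4, 0, 3, 1, 4, 2, 0, 2, 0, 1, 0, 3, 1, 0, 3, 4, 4, 4, 0, 3, 3, 3],
  [1, 3, 0, 2, 0, 2, 3, 2, 0, 1, 3, 0, 2, 0, 2, 0, 3, 2, 3, 3, 3, 1, 1, 0],
  [],
  [],
  [],
  [],
  [],
  [],
  [],
  [],
  [],
  [],
  [],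
  [],
  [],
  [],
  [],
  [],
  [],
  [],
  [],
  [],
  [],
  [],
  [],
  [],
  [],
  [],
  [],
  [],
  [],
  [],
  [],
  [],
  [],
  [],
  [0, 1, 3, 1, 2, 0, 4, 0, 3, 0, 4, 0, 3, 0, 1, 4, 2, 0, 4, 4, 4, 0, 3, 3, 3],
  [],
  [],
  [],
  [],
  [],
  [],
  [],
  [],
  [],
  [],
  [],
  [],
  [],
  [],
  [],
  [0, 1, 3, 1, 0, 1, 3, 1, 0, 1, 3, 1, 0, 1, 3, 1, 3, 0, 4, 1, 0, 3, 2, 4, 1, 3, 4, 2, 3, 0, 4, 1, 4, 1, 4, 3, 1, 3, 1, 4, 1, 3, 4, 4, 4, 0, 3, 3, 3],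
  [],
  [],
  [],
  [],
  [],
  [],
  [],
  [],
  [],
  [],
  [],
  [],
  [],
  [],
  [],
  [],
  [],
  [],
  [],
  [],
  [],
  [],
  [],
  [],
  [],
  [],
  [],
  [],
  [],
  [],
  [],
  [],
  [],
  [0, 1, 3, 1, 0, 1, 3, 1, 0, 1, 3, 1, 0, 1, 3, 1, 0, 1, 3, 1, 0, 1, 3, 1, 0, 1, 3, 1, 2, 3, 0, 3, 0, 2, 3, 2, 3, 1, 3, 0, 2, 3, 1, 3, 0, 2, 4, 1, 3, 3, 1, 3, 0, 2, 4, 4, 4, 0, 3, 3, 3],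
  [],
  [],
  [],
  [],
  [],
  [],
  [],
  [],
  [],
  [],
  [],
  [],
  [],
  [],
  [],
  [],
  [],
  [],
  [],
  [],
  [],
  [],
  [],
  [],
  [],
  [],
  [],
  [],
  [],
  [],
  [],
  [],
  [],
  [0, 1, 3, 1, 4, 0, 2, 4, 2, 0, 3, 3, 0, 1, 0, 4, 0, 2, 3, 1, 3, 0, 2, 4, 1, 3, 3, 1, 3, 0, 2, 4, 4, 4, 0, 3, 3, 3],
  [],
  [],
  [],
  [],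
  [],
  [0, 1, 3, 1, 0, 1, 3, 1, 0, 1, 3, 1, 0, 1, 3, 1, 0, 1, 3, 1, 4, 2, 0, 1, 4, 1, 0, 1, 0, 4, 2, 3, 1, 0, 4, 2, 4, 1, 0, 4, 1, 0, 4, 1, 0, 1, 4, 4, 4, 0, 3, 3, 3],
  [],
  [],
  [],
  [],
  [],
  [2, 0, 4, 0, 3, 0, 4, 0, 3, 0, 0, 1, 3, 1, 2, 0, 4, 0, 3, 0, 4, 0, 3, 0, 1, 4, 2, 0, 4, 4, 4, 0, 3, 3, 3],
  [],
  [],
  [],
  [0, 1, 3, 1, 0, 1, 3, 1, 0, 3, 0, 3, 0, 3, 3, 1, 0, 2, 3, 2, 0, 3, 0, 3, 0, 3, 3, 1, 0, 2, 3, 2, 0, 3, 3, 1, 3, 0, 3, 0, 1, 1, 3, 0, 2, 0, 2, 3, 2, 0, 1, 3, 0, 2, 0, 2, 0, 3, 2, 4, 4, 4, 0, 3, 3, 3],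
  [],
  [],
  [],
  [],
  [],
  [],
  [4, 1, 3, 2, 3, 3, 1, 4, 2, 3, 3, 3, 3, 1, 1, 0],
  [],
  [],
  [],
  [],
  [0, 1, 3, 1, 0, 1, 3, 1, 0, 1, 3, 1, 0, 1, 3, 1, 0, 1, 3, 1, 0, 1, 3, 1, 0, 1, 3, 1, 0, 2, 3, 1, 4, 1, 3, 0, 3, 3, 1, 0, 4, 2, 3, 0, 4, 1, 4, 1, 4, 3, 1, 3, 1, 4, 1, 3, 4, 4, 4, 0, 3, 3, 3],
  [],
  [],
  [],
  [0, 1, 3, 1, 0, 1, 3, 1, 0, 1, 3, 1, 0, 1, 3, 1, 0, 1, 3, 1, 0, 1, 3, 1, 0, 3, 3, 2, 0, 4, 0, 2, 0, 1, 0, 2, 4, 0, 4, 2, 3, 3, 1, 1, 0, 2, 3, 0, 2, 3, 1, 4, 4, 4, 0, 3, 3, 3],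
  [],
  [],
  [],
  [],
  [],
  [],
  [0, 2, 3, 0, 3, 3, 0, 4, 1, 0, 3, 3, 0, 4, 2, 3, 3, 3, 3, 1, 1, 0],
  [0, 1, 3, 1, 0, 1, 3, 1, 0, 1, 3, 1, 0, 1, 3, 1, 0, 1, 3, 1, 0, 2, 3, 0, 2, 0, 3, 2, 3, 1, 4, 0, 3, 1, 4, 2, 0, 2, 0, 1, 0, 3, 1, 0, 3, 4, 4, 4, 0, 3, 3, 3],
  [],
  [],
  [],
  [],
  [],
  [],
  [],
  [],
  [],
  [],
  [],
  [],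
  [],
  [],
  [],
  [],
  [],
  [],
  [],
  [0, 1, 3, 1, 0, 1, 3, 1, 0, 1, 3, 1, 0, 1, 3, 1, 0, 1, 3, 1, 0, 1, 3, 1, 0, 1, 3, 1, 2, 3, 0, 3, 0, 2, 3, 2, 3, 1, 3, 4, 2, 3, 0, 4, 1, 4, 1, 4, 3, 1, 3, 1, 4, 1, 3, 4, 4, 4, 0, 3, 3, 3],
  [],
  [],
  [],
  [],
  [],
  [],
  [],
  [],
  [],
  [],
  [],
  [],
  [],
  [],
  [],
  [],
  [],
  [],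
  [2, 0, 4, 0, 3, 0, 4, 0, 3, 0, 4, 2, 0, 1, 0, 1, 4, 0, 4, 2, 0, 2, 3, 1, 4, 0, 3, 4, 4, 4, 0, 3, 3, 3],
  [],
  [],
  [],
  [],
  [],
  [3, 3, 3, 1, 1, 0],
  [],
  [],
  [],
  [],
  [],
  [0, 1, 3, 1, 0, 1, 3, 1, 0, 1, 3, 1, 0, 1, 3, 1, 0, 1, 3, 1, 0, 1, 3, 1, 0, 1, 3, 1, 0, 4, 1, 0, 1, 3, 1, 4, 0, 3, 2, 0, 0, 2, 3, 0, 3, 3, 0, 4, 1, 0, 3, 3, 0, 4, 2, 3, 4, 4, 4, 0, 3, 3, 3],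
  [],
  [],
  [],
  [],
  [],
  [],
  [0, 2, 3, 1, 3, 0, 2, 4, 1, 3, 3, 1, 3, 0, 2, 4, 4, 4, 0, 3, 3, 3],
  [],
  [],
  [],
  [2, 0, 4, 0, 3, 0, 4, 0, 3, 0, 1, 0, 2, 4, 0, 4, 2, 3, 3, 1, 1, 0, 2, 3, 0, 2, 3, 1, 4, 4, 4, 0, 3, 3, 3],
  [],
  [],
  [],
  [],
  [],
  [1, 3, 1, 4, 2, 0, 3, 0, 1, 4, 2, 0, 1, 3, 1, 2, 0, 4, 0, 3, 0, 4, 0, 3, 0, 1, 4, 2, 0, 4, 4, 4, 0, 3, 3, 3],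
  [],
  [],
  [],
  [],
  [],
  [],
  [],
  [],
  [],
  [],
  [],
  [],
  [],
  [2, 0, 4, 0, 3, 0, 4, 0, 3, 0, 1, 3, 0, 2, 0, 2, 3, 2, 0, 1, 3, 0, 1, 4, 1, 0, 4, 0, 1, 4, 4, 4, 0, 3, 3, 3],
  [],
  [],
  [],
  [],
  [],
  [],
  [],
  [],
  [],
  [0, 1, 3, 1, 0, 1, 3, 1, 0, 1, 3, 1, 0, 1, 3, 1, 0, 1, 3, 1, 0, 1, 3, 1, 3, 3, 0, 4, 1, 3, 1, 3, 3, 1, 3, 0, 2, 0, 2, 3, 2, 0, 1, 3, 0, 1, 4, 1, 0, 4, 0, 1, 4, 4, 4, 0, 3, 3, 3],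
  [],
  [],
  [],
  [],
  [],
  [],
  [],
  [],
  [],
  [],
  [],
  [],
  [],
  [],
  [],
  [],
  [],
  [],
  [],
  [],
  [],
  [],
  [],
  [],
  [],
  [],
  [],
  [],
  [],
  [],
  [],
  [0, 1, 3, 1, 0, 1, 3, 1, 0, 1, 3, 1, 0, 1, 3, 1, 0, 1, 3, 1, 0, 2, 3, 0, 2, 0, 3, 2, 3, 1, 0, 2, 4, 0, 4, 2, 3, 3, 1, 1, 0, 2, 3, 0, 2, 3, 1, 4, 4, 4, 0, 3, 3, 3],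
  [],
  [],
  [],
  [],
  [],
  [],
  [],
  [],
  [],
  [],
  [],
  [],
  [],
  [],
  [0, 1, 3, 1, 1, 3, 1, 3, 3, 2, 3, 3, 2, 4, 2, 1, 3, 0, 2, 0, 2, 3, 2, 0, 1, 3, 0, 2, 0, 2, 0, 3, 2, 4, 4, 4, 0, 3, 3, 3],
  [],
  [],
  [],
  [],
  [],
  [],
  [],
  [],
  [],
  [],
  [],
  [],
  [],
  [],
  [],
  [],
  [],
  [],
  [],
  [],
  [],
  [],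
  [],
  [],
  [],
  [],
  [],
  [],
  [],
  [0, 1, 3, 1, 1, 3, 1, 3, 3, 2, 3, 3, 2, 4, 2, 3, 1, 0, 4, 2, 4, 1, 0, 4, 1, 0, 4, 1, 0, 1, 4, 4, 4, 0, 3, 3, 3],
  [],
  [],
  [],
  [],
  [],
  [],
  [],
  [],
  [],
  [],
  [0, 1, 3, 1, 0, 1, 3, 1, 0, 1, 3, 1, 0, 1, 3, 1, 0, 1, 3, 1, 0, 1, 3, 1, 0, 1, 3, 1, 0, 4, 1, 0, 1, 3, 1, 4, 0, 3, 2, 0, 4, 4, 4, 0, 3, 3, 3],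
  [],
  [],
  [],
  [],
  [],
  [],
  [],
  [],
  [],
  [],
  [],
  [],
  [],
  [],
  [],
  [],
  [],
  [],
  [],
  [],
  [],
  [],
  [],
  [],
  [],
  [],
  [],
  [],
  [],
  [],
  [],
  [0, 1, 3, 1, 0, 1, 3, 1, 0, 3, 0, 3, 0, 3, 3, 1, 0, 2, 3, 2, 0, 3, 0, 3, 0, 3, 3, 1, 0, 2, 3, 2, 0, 3, 3, 1, 3, 0, 3, 0, 1, 4, 4, 4, 0, 3, 3, 3],
  [],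
  [],
  [0, 1, 3, 1, 0, 1, 3, 1, 0, 1, 3, 1, 0, 1, 3, 1, 0, 1, 3, 1, 0, 1, 3, 1, 0, 1, 3, 1, 2, 3, 0, 3, 0, 2, 3, 2, 3, 1, 3, 1, 3, 0, 2, 0, 2, 3, 2, 0, 1, 3, 0, 2, 0, 2, 0, 3, 2, 4, 4, 4, 0, 3, 3, 3],
  [],
  [],
  [],
  [],
  [],
  [],
  [],
  [],
  [],
  [],
  [],
  [],
  [],
  [],
  [],
  [],
  [],
  [],
  [],
  [],
  [],
  [],
  [],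
  [],
  [],
  [],
  [],
  [],
  [],
  [2, 0, 4, 0, 3, 0, 4, 0, 3, 0, 3, 3, 0, 4, 1, 3, 1, 3, 3, 0, 2, 0, 2, 0, 1, 4, 4, 4, 0, 3, 3, 3],
  [],
  [],
  [],
  [],
  [1, 3, 1, 4, 2, 0, 3, 0, 1, 4, 2, 4, 2, 0, 1, 0, 1, 4, 0, 4, 2, 0, 2, 3, 1, 4, 0, 3, 4, 4, 4, 0, 3, 3, 3],
  [],
  [],
  [],
  [],
  [],
  [],
  [],
  [],
  [],
  [],
  [],
  [],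
  [],
  [],
  [4, 2, 0, 1, 0, 1, 4, 0, 4, 2, 0, 2, 3, 1, 4, 0, 3, 4, 4, 4, 0, 3, 3, 3],
  [],
  [],
  [],
  [],
  [],
  [],
  [],
  [],
  [],
  [],
  [],
  [],
  [],
  [],
  [],
  [],
  [],
  [],
  [],
  [1, 3, 1, 4, 2, 0, 3, 0, 1, 4, 2, 0, 2, 3, 0, 3, 3, 0, 4, 1, 0, 3, 3, 0, 4, 2, 3, 4, 4, 4, 0, 3, 3, 3],
  [],
  [],
  [],
  [],
  [],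
  [],
  [],
  [],
  [],
  [],
  [],
  [],
  [],
  [],
  [],
  [],
  [],
  [],
  [],
  [],
  [],
  [],
  [],
  [],
  [],
  [],
  [],
  [],
  [],
  [],
  [],
  [],
  [],
  [],
  [],
  [],
  [],
  [],
  [],
  [],
  [],
  [2, 0, 4, 0, 3, 0, 4, 0, 3, 0, 1, 4, 0, 3, 1, 4, 2, 0, 2, 0, 1, 0, 3, 1, 0, 3, 4, 4, 4, 0, 3, 3, 3],
  [],
  [],
  [],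
  [],
  [],
  [],
  [],
  [],
  [0, 1, 3, 1, 0, 1, 3, 1, 0, 1, 3, 1, 0, 1, 3, 1, 0, 1, 3, 1, 0, 2, 3, 0, 2, 0, 3, 2, 3, 4, 2, 0, 1, 0, 1, 4, 0, 4, 2, 0, 2, 3, 1, 4, 0, 3, 4, 4, 4, 0, 3, 3, 3],
  [],
  [],
  [],
  [],
  [],
  [],
  [],
  [],
  [],
  [],
  [],
  [],
  [],
  [],
  [],
  [],
  [],
  [],
  [],
  [0, 1, 3, 1, 0, 3, 0, 3, 0, 3, 3, 1, 0, 2, 3, 2, 0, 3, 0, 3, 0, 3, 3, 1, 0, 2, 3, 2, 1, 4, 0, 3, 1, 4, 2, 0, 2, 0, 1, 3, 1, 2, 0, 4, 0, 3, 0, 4, 0, 3, 0, 1, 4, 2, 0, 4, 4, 4, 0, 3, 3, 3],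
  [],
  [],
  [],
  [],
  [],
  [],
  [],
  [],
  [],
  [],
  [],
  [],
  [2, 0, 3, 2, 0, 2, 0, 1, 3, 3, 1, 0, 1, 0, 4, 2, 4, 4, 4, 0, 3, 3, 3],
  [],
  [],
  [],
  [1, 4, 0, 3, 1, 4, 2, 0, 2, 0, 1, 0, 3, 1, 0, 3, 3, 3, 3, 1, 1, 0],
  [],
  [],
  [],
  [],
  [],
  [],
  [],
  [],
  [],
  [],
  [],
  [],
  [],
  [],
  [],
  [4, 1, 3, 2, 3, 3, 1, 4, 2, 3, 2, 0, 3, 2, 0, 2, 0, 1, 3, 3, 1, 0, 1, 0, 4, 2, 4, 4, 4, 0, 3, 3, 3],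
  [],
  [],
  [],
  [],
  [],
  [],
  [],
  [0, 1, 3, 1, 0, 1, 3, 1, 0, 3, 0, 3, 0, 3, 3, 1, 0, 2, 3, 2, 0, 3, 0, 3, 0, 3, 3, 1, 0, 2, 3, 2, 0, 3, 3, 1, 3, 0, 3, 0, 1, 0, 2, 3, 0, 3, 3, 0, 4, 1, 0, 3, 3, 0, 4, 2, 3, 4, 4, 4, 0, 3, 3, 3],
  [],
  []]

end Cfsg.Agent.Lib.Helper4.J3C
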