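import Mathlib.Data.Nat.Notation

set_option autoImplicit false
set_option maxRecDepth 100000

/-! # Data of the centralizer of an involution of `J3`: the words of the normal subgroup -/

namespace Cfsg.Agent.Lib.Helper4.J3C

/-- the words of the elements of the normal subgroup of order 32 -/
def QWL : List (List ℕ) := [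
  [4, 1, 3, 2, 3, 3, 1, 4, 2, 3, 3, 3, 0, 4, 1, 3, 1, 3, 3, 0, 2, 0, 2, 0, 1],
  [],
  [1, 0, 4, 0, 3, 0, 4, 0, 3, 0, 2],
  [0, 3, 0, 3, 0, 3, 3, 1, 0, 2, 3, 2, 0, 3, 0, 3, 0, 3, 3, 1, 0, 2, 3, 2, 0, 1, 0, 1, 0, 3, 3, 0, 1, 3, 1, 3, 0, 3, 0, 3, 0, 3, 3, 1, 0, 2, 3, 2, 0, 3, 0, 3, 0, 3, 3, 1, 0, 2, 3, 2, 1, 4, 0, 3, 1, 4, 2, 0, 2, 1, 0, 1, 0, 1, 0, 3],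
  [0, 1, 3, 1, 1, 3, 1, 3, 3, 2, 3, 3, 2, 4, 2, 3, 1, 0, 4, 2, 4, 1, 0, 4, 1, 0, 4, 1, 0, 1],
  [0, 1, 3, 1, 0, 3, 0, 3, 0, 3, 3, 1, 0, 2, 3, 2, 0, 3, 0, 3, 0, 3, 3, 1, 0, 2, 3, 2, 0, 3, 0, 3, 0, 3, 3, 1, 0, 2, 3, 2, 0, 3, 0, 3, 0, 3, 3, 1, 0, 2, 3, 2, 0, 4, 0, 1, 0, 4, 0, 4, 0, 3, 2, 0, 1, 4, 0, 4, 2, 3, 2, 3, 1, 4, 0, 2, 0, 2, 3, 1, 3, 3, 0],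
  [0, 1, 3, 1, 0, 1, 3, 1, 0, 1, 3, 1, 0, 3, 0, 3, 0, 3, 3, 1, 0, 2, 3, 2, 0, 3, 0, 3, 0, 3, 3, 1, 0, 2, 3, 2, 0, 3, 0, 3, 0, 3, 3, 1, 0, 2, 3, 2, 0, 3, 0, 3, 0, 3, 3, 1, 0, 2, 3, 2, 2, 3, 0, 2, 3, 0, 4, 1, 3, 3, 1, 4, 2, 3, 0, 4, 1, 4, 1, 4, 3, 1, 3, 1, 4, 1, 3],
  [0, 1, 3, 1, 0, 1, 3, 1, 0, 1, 3, 1, 0, 1, 3, 1, 0, 3, 0, 3, 0, 3, 3, 1, 0, 2, 3, 2, 0, 3, 0, 3, 0, 3, 3, 1, 0, 2, 3, 2, 3, 1, 0, 4, 2, 4, 1, 0, 1, 3, 0, 2, 0, 2, 3, 2, 0, 1, 3, 0, 1, 4, 1, 0, 4, 0, 1],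
  [0, 1, 3, 1, 0, 1, 3, 1, 0, 1, 3, 1, 0, 1, 3, 1, 0, 3, 0, 3, 0, 3, 3, 1, 0, 2, 3, 2, 0, 3, 0, 3, 0, 3, 3, 1, 0, 2, 3, 2, 0, 3, 0, 3, 0, 3, 3, 1, 0, 2, 3, 2, 0, 3, 0, 3, 0, 3, 3, 1, 0, 2, 3, 2, 1, 4, 0, 1, 4, 1, 4, 1, 0, 1, 0, 0, 2, 3, 0, 3, 3, 0, 4, 1, 0, 3, 3, 0, 4, 2, 3],
  [0, 1, 3, 1, 0, 1, 3, 1, 0, 1, 3, 1, 0, 1, 3, 1, 0, 1, 3, 1, 0, 3, 0, 3, 0, 3, 3, 1, 0, 2, 3, 2, 0, 3, 0, 3, 0, 3, 3, 1, 0, 2, 3, 2, 0, 3, 0, 3, 0, 3, 3, 1, 0, 2, 3, 2, 0, 3, 0, 3, 0, 3, 3, 1, 0, 2, 3, 2, 0, 3, 0, 3, 0, 3, 3, 1, 0, 2, 3, 2, 0, 3, 0, 3, 0, 3, 3, 1, 0, 2, 3, 2, 0, 2, 4, 0, 1, 0, 3, 2, 0, 4, 2, 4, 2, 3, 2, 0, 1, 3, 2, 0,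 3, 4, 0, 4, 1, 4, 1, 4],
  [0, 1, 3, 1, 0, 1, 3, 1, 0, 1, 3, 1, 0, 1, 3, 1, 0, 1, 3, 1, 0, 1, 3, 1, 0, 3, 0, 3, 0, 3, 3, 1, 0, 2, 3, 2, 0, 3, 0, 3, 0, 3, 3, 1, 0, 2, 3, 2, 4, 0, 3, 2, 3, 3, 0, 2, 3, 1, 0, 1, 4, 0, 4, 2, 3, 2, 3, 1, 4, 0, 2, 0, 2, 3, 1, 3, 3, 0],
  [0, 1, 3, 1, 0, 1, 3, 1, 0, 1, 3, 1, 0, 1, 3, 1, 0, 1, 3, 1, 0, 1, 3, 1, 0, 3, 0, 3, 0, 3, 3, 1, 0, 2, 3, 2, 0, 3, 0, 3, 0, 3, 3, 1, 0, 2, 3, 2, 0, 3, 0, 3, 0, 3, 3, 1, 0, 2, 3, 2, 0, 3, 0, 3, 0, 3, 3, 1, 0, 2, 3, 2, 0, 2, 3, 1, 4, 1, 3, 0, 3, 3, 1, 0, 1, 4, 0, 3, 1, 4, 2, 0, 2, 0, 1, 0, 3, 1, 0, 3],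
  [0, 1, 3, 1, 0, 1, 3, 1, 0, 1, 3, 1, 0, 1, 3, 1, 0, 1, 3, 1, 0, 1, 3, 1, 0, 1, 3, 1, 0, 2, 3, 1, 4, 1, 3, 0, 3, 3, 1, 0, 1, 0, 2, 4, 0, 4, 2, 3, 3, 1, 1, 0, 2, 3, 0, 2, 3, 1],
  [0, 1, 3, 1, 0, 1, 3, 1, 0, 1, 3, 1, 0, 1, 3, 1, 0, 1, 3, 1, 0, 1, 3, 1, 0, 1, 3, 1, 0, 3, 0, 3, 0, 3, 3, 1, 0, 2, 3, 2, 0, 3, 0, 3, 0, 3, 3, 1, 0, 2, 3, 2, 0, 3, 0, 3, 0, 3, 3, 1, 0, 2, 3, 2, 0, 3, 0, 3, 0, 3, 3, 1, 0, 2, 3, 2, 0, 3, 0, 3, 0, 3, 3, 1, 0, 2, 3, 2, 0, 3, 0, 3, 0, 3, 3, 1, 0, 2, 3, 2, 4, 2, 3, 0, 4, 1, 4, 1, 4, 0, 2, 3, 1, 3, 0, 2, 4, 1, 3, 3, 1, 3, 0, 2],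
  [0, 1, 3, 1, 0, 1, 3, 1, 0, 1, 3, 1, 0, 1, 3, 1, 0, 1, 3, 1, 0, 1, 3, 1, 0, 1, 3, 1, 0, 1, 3, 1, 0, 3, 0, 3, 0, 3, 3, 1, 0, 2, 3, 2, 0, 3, 0, 3, 0, 3, 3, 1, 0, 2, 3, 2, 1, 0, 2, 4, 0, 4, 2, 3, 2, 0, 0, 2, 3, 1, 3, 0, 2, 4, 1, 3, 3, 1, 3, 0, 2],
  [0, 1, 3, 1, 0, 1, 3, 1, 0, 1, 3, 1, 0, 1, 3, 1, 0, 1, 3, 1, 0, 1, 3, 1, 0, 1, 3, 1, 0, 1, 3, 1, 0, 3, 0, 3, 0, 3, 3, 1, 0, 2, 3, 2, 0, 3, 0, 3, 0, 3, 3, 1, 0, 2, 3, 2, 0, 3, 0, 3, 0, 3, 3, 1, 0, 2, 3, 2, 0, 3, 0, 3, 0, 3, 3, 1, 0, 2, 3, 2, 4, 2, 0, 1, 4, 1, 0, 1, 0, 4, 2, 2, 0, 3, 2, 0, 2, 0, 1, 3, 3, 1, 0, 1, 0, 4, 2],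
  [0, 1, 3, 1, 0, 1, 3, 1, 0, 1, 3, 1, 0, 1, 3, 1, 0, 1, 3, 1, 0, 1, 3, 1, 0, 1, 3, 1, 0, 1, 3, 1, 0, 1, 3, 1, 0, 3, 0, 3, 0, 3, 3, 1, 0, 2, 3, 2, 0, 3, 0, 3, 0, 3, 3, 1, 0, 2, 3, 2, 0, 3, 0, 3, 0, 3, 3, 1, 0, 2, 3, 2, 0, 3, 0, 3, 0, 3, 3, 1, 0, 2, 3, 2, 0, 3, 0, 3, 0, 3, 3, 1, 0, 2, 3, 2, 0, 3, 0, 3, 0, 3, 3, 1, 0, 2, 3, 2, 0, 2, 0, 4, 1, 4, 1, 3, 3, 0, 2, 4, 0, 3, 0, 3, 0, 3, 3, 1, 0, 2, 3, 2, 0, 3, 0, 3, 0, 3, 3, 1, 0, 2, 3, 2, 1, 4, 0, 3, 1, 4, 2, 0, 2, 1, 0, 1, 0, 1, 0, 3],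
  [0, 1, 3, 1, 0, 1, 3, 1, 0, 1, 3, 1, 0, 1, 3, 1, 0, 1, 3, 1, 0, 1, 3, 1, 0, 1, 3, 1, 0, 1, 3, 1, 0, 1, 3, 1, 0, 1, 3, 1, 0, 1, 3, 1, 0, 3, 0, 3, 0, 3, 3, 1, 0, 2, 3, 2, 0, 3, 0, 3, 0, 3, 3, 1, 0, 2, 3, 2, 1, 0, 2, 4, 0, 4, 2, 3, 3, 1, 0, 1, 3, 1, 2, 0, 4, 0, 3, 0, 4, 0, 3, 0, 1, 4, 2, 0],
  [0, 1, 3, 1, 0, 1, 3, 1, 0, 1, 3, 1, 0, 1, 3, 1, 0, 1, 3, 1, 0, 1, 3, 1, 0, 1, 3, 1, 0, 1, 3, 1, 0, 1, 3, 1, 0, 1, 3, 1, 0, 1, 3, 1, 0, 3, 0, 3, 0, 3, 3, 1, 0, 2, 3, 2, 0, 3, 0, 3, 0, 3, 3, 1, 0, 2, 3, 2, 0, 3, 0, 3, 0, 3, 3, 1, 0, 2, 3, 2, 0, 3, 0, 3, 0, 3, 3, 1, 0, 2, 3, 2, 0, 3, 0, 3, 0, 3, 3, 1, 0, 2, 3, 2, 0, 3, 0,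 3, 0, 3, 3, 1, 0, 2, 3, 2, 0, 3, 3, 1, 3, 0, 3, 0, 1, 4, 2, 3, 0, 4, 1, 4, 1, 4, 3, 1, 3, 1, 4, 1, 3],
  [0, 1, 3, 1, 0, 1, 3, 1, 0, 1, 3, 1, 0, 1, 3, 1, 0, 1, 3, 1, 0, 1, 3, 1, 0, 1, 3, 1, 0, 1, 3, 1, 0, 1, 3, 1, 0, 1, 3, 1, 0, 1, 3, 1, 0, 1, 3, 1, 0, 3, 0, 3, 0, 3, 3, 1, 0, 2, 3, 2, 0, 3, 0, 3, 0, 3, 3, 1, 0, 2, 3, 2, 0, 3, 0, 3, 0, 3, 3, 1, 0, 2, 3, 2, 0, 3, 0, 3, 0, 3, 3, 1, 0, 2, 3, 2, 4, 0, 2, 4, 2, 0, 3, 3, 0, 1, 0, 4, 3, 1, 0, 4, 2, 4, 1, 0, 4, 1, 0, 4, 1, 0, 1],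
  [0, 1, 3, 1, 0, 1, 3, 1, 0, 1, 3, 1, 0, 1, 3, 1, 0, 1, 3, 1, 0, 1, 3, 1, 0, 1, 3, 1, 0, 1, 3, 1, 0, 1, 3, 1, 0, 1, 3, 1, 0, 1, 3, 1, 0, 1, 3, 1, 0, 1, 3, 1, 0, 3, 0, 3, 0, 3, 3, 1, 0, 2, 3, 2, 0, 3, 0, 3, 0, 3, 3, 1, 0, 2, 3, 2, 0, 3, 0, 3, 0, 3, 3, 1, 0, 2, 3, 2, 0, 3, 0, 3, 0, 3, 3, 1, 0, 2, 3, 2, 4, 2, 0, 1, 0, 1, 4, 0, 4, 2, 0, 2, 3, 1, 4, 0, 3],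
  [0, 1, 3, 1, 0, 1, 3, 1, 0, 1, 3, 1, 0, 1, 3, 1, 0, 1, 3, 1, 0, 1, 3, 1, 0, 1, 3, 1, 0, 1, 3, 1, 0, 1, 3, 1, 0, 1, 3, 1, 0, 1, 3, 1, 0, 1, 3, 1, 0, 1, 3, 1, 0, 3, 0, 3, 0, 3, 3, 1, 0, 2, 3, 2, 0, 3, 0, 3, 0, 3, 3, 1, 0, 2, 3, 2, 0, 3, 0, 3, 0, 3, 3, 1, 0, 2, 3, 2, 0, 3, 0, 3, 0, 3, 3, 1, 0, 2, 3, 2, 1, 3, 0, 2, 0, 2, 3, 2, 0, 1, 3, 0, 2, 0, 2, 0, 3, 2],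
  [0, 1, 3, 1, 0, 1, 3, 1, 0, 1, 3, 1, 0, 1, 3, 1, 0, 1, 3, 1, 0, 1, 3, 1, 0, 1, 3, 1, 0, 1, 3, 1, 0, 1, 3, 1, 0, 1, 3, 1, 0, 1, 3, 1, 0, 1, 3, 1, 0, 1, 3, 1, 0, 3, 0, 3, 0, 3, 3, 1, 0, 2, 3, 2, 0, 3, 0, 3, 0, 3, 3, 1, 0, 2, 3, 2, 0, 3, 0, 3, 0, 3, 3, 1, 0, 2, 3, 2, 0, 3, 0, 3, 0, 3, 3, 1, 0, 2, 3, 2, 1, 0, 4, 0, 3, 0, 4, 0, 3, 0, 2, 4, 2, 0, 1, 0, 1, 4, 0, 4, 2, 0, 2, 3, 1, 4, 0, 3],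
  [0, 1, 3, 1, 0, 1, 3, 1, 0, 1, 3, 1, 0, 1, 3, 1, 0, 1, 3, 1, 0, 1, 3, 1, 0, 1, 3, 1, 0, 1, 3, 1, 0, 1, 3, 1, 0, 1, 3, 1, 0, 1, 3, 1, 0, 1, 3, 1, 0, 1, 3, 1, 0, 3, 0, 3, 0, 3, 3, 1, 0, 2, 3, 2, 0, 3, 0, 3, 0, 3, 3, 1, 0, 2, 3, 2, 0, 3, 0, 3, 0, 3, 3, 1, 0, 2, 3, 2, 0, 3, 0, 3, 0, 3, 3, 1, 0, 2, 3, 2, 1, 0, 4, 0, 3, 0, 4, 0, 3, 0, 2, 1, 3, 0, 2, 0, 2, 3, 2, 0, 1, 3, 0, 2, 0, 2, 0, 3, 2],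
  [0, 1, 3, 1, 0, 1, 3, 1, 0, 1, 3, 1, 0, 1, 3, 1, 0, 1, 3, 1, 0, 1, 3, 1, 0, 1, 3, 1, 0, 1, 3, 1, 0, 1, 3, 1, 0, 1, 3, 1, 0, 1, 3, 1, 0, 1, 3, 1, 0, 1, 3, 1, 0, 3, 0, 3, 0, 3, 3, 1, 0, 2, 3, 2, 0, 3, 0, 3, 0, 3, 3, 1, 0, 2, 3, 2, 0, 3, 0, 3, 0, 3, 3, 1, 0, 2, 3, 2, 0, 3, 0, 3, 0, 3, 3, 1, 0, 2, 3, 2, 0, 3, 0, 3, 0, 3, 3, 1, 0, 2, 3, 2, 0, 3, 0, 3, 0, 3, 3, 1, 0, 2, 3, 2, 0, 1, 4, 1, 3, 1, 3, 2, 0, 2, 0, 4, 2, 3, 2, 0, 1, 3, 2, 0, 3, 4, 0, 4, 1, 4, 1, 4],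
  [0, 1, 3, 1, 0, 1, 3, 1, 0, 1, 3, 1, 0, 1, 3, 1, 0, 1, 3, 1, 0, 1, 3, 1, 0, 1, 3, 1, 0, 1, 3, 1, 0, 1, 3, 1, 0, 1, 3, 1, 0, 1, 3, 1, 0, 1, 3, 1, 0, 1, 3, 1, 0, 1, 3, 1, 0, 3, 0, 3, 0, 3, 3, 1, 0, 2, 3, 2, 0, 3, 0, 3, 0, 3, 3, 1, 0, 2, 3, 2, 0, 3, 0, 3, 0, 3, 3, 1, 0, 2, 3, 2, 0, 3, 0, 3, 0, 3, 3, 1, 0, 2, 3, 2, 0, 2, 0, 4, 1, 4, 1, 3, 2, 4, 1, 0, 1, 0, 2, 4, 0, 4, 2, 3, 3, 1, 1, 0, 2, 3, 0, 2, 3, 1],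
  [0, 1, 3, 1, 0, 1, 3, 1, 0, 1, 3, 1, 0, 1, 3, 1, 0, 1, 3, 1, 0, 1, 3, 1, 0, 1, 3, 1, 0, 1, 3, 1, 0, 1, 3, 1, 0, 1, 3, 1, 0, 1, 3, 1, 0, 1, 3, 1, 0, 1, 3, 1, 0, 1, 3, 1, 0, 3, 0, 3, 0, 3, 3, 1, 0, 2, 3, 2, 0, 3, 0, 3, 0, 3, 3, 1, 0, 2, 3, 2, 0, 3, 0, 3, 0, 3, 3, 1, 0, 2, 3, 2, 0, 3, 0, 3, 0, 3, 3, 1, 0, 2, 3, 2, 4, 1, 0, 1, 4, 0, 4, 2, 3, 2, 2, 0, 3, 2, 0, 2, 0, 1, 3, 3, 1, 0, 1, 0, 4, 2],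
  [0, 1, 3, 1, 0, 1, 3, 1, 0, 1, 3, 1, 0, 1, 3, 1, 0, 1, 3, 1, 0, 1, 3, 1, 0, 1, 3, 1, 0, 1, 3, 1, 0, 1, 3, 1, 0, 1, 3, 1, 0, 1, 3, 1, 0, 1, 3, 1, 0, 1, 3, 1, 0, 1, 3, 1, 0, 3, 0, 3, 0, 3, 3, 1, 0, 2, 3, 2, 0, 3, 0, 3, 0, 3, 3, 1, 0, 2, 3, 2, 0, 3, 0, 3, 0, 3, 3, 1, 0, 2, 3, 2, 0, 3, 0, 3, 0, 3, 3, 1, 0, 2, 3, 2, 0, 3, 0, 3, 0, 3, 3, 1, 0, 2, 3, 2, 0, 3, 0, 3, 0, 3, 3, 1, 0, 2, 3, 2, 0, 3, 0, 3, 2, 3, 2, 3, 0, 3, 2, 3, 3, 0, 4, 1, 3, 1, 3, 3, 0, 2, 0, 2, 0, 1],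
  [0, 1, 3, 1, 0, 1, 3, 1, 0, 1, 3, 1, 0, 1, 3, 1, 0, 1, 3, 1, 0, 1, 3, 1, 0, 1, 3, 1, 0, 1, 3, 1, 0, 1, 3, 1, 0, 1, 3, 1, 0, 1, 3, 1, 0, 1, 3, 1, 0, 1, 3, 1, 0, 1, 3, 1, 0, 1, 3, 1, 0, 3, 0, 3, 0, 3, 3, 1, 0, 2, 3, 2, 0, 3, 0, 3, 0, 3, 3, 1, 0, 2, 3, 2, 0, 3, 0, 3, 0, 3, 3, 1, 0, 2, 3, 2, 0, 3, 0, 3, 0, 3, 3, 1, 0, 2, 3, 2, 0, 3, 0, 3, 0, 3, 3, 1, 0, 2, 3, 2, 0, 3, 0, 3, 0, 3, 3, 1, 0, 2, 3, 2, 1, 0, 1, 0, 4, 2, 0, 2, 3, 0, 1, 3, 0, 2, 3, 0, 3, 3, 0, 4, 1, 0, 3, 3, 0, 4, 2, 3],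
  [0, 1, 3, 1, 0, 1, 3, 1, 0, 1, 3, 1, 0, 1, 3, 1, 0, 1, 3, 1, 0, 1, 3, 1, 0, 1, 3, 1, 0, 1, 3, 1, 0, 1, 3, 1, 0, 1, 3, 1, 0, 1, 3, 1, 0, 1, 3, 1, 0, 1, 3, 1, 0, 1, 3, 1, 0, 1, 3, 1, 0, 1, 3, 1, 0, 2, 0, 4, 1, 4, 1, 3, 2, 4, 1, 0, 1, 4, 0, 3, 1, 4, 2, 0, 2, 0, 1, 0, 3, 1, 0, 3],
  [0, 1, 3, 1, 0, 1, 3, 1, 0, 1, 3, 1, 0, 1, 3, 1, 0, 1, 3, 1, 0, 1, 3, 1, 0, 1, 3, 1, 0, 1, 3, 1, 0, 1, 3, 1, 0, 1, 3, 1, 0, 1, 3, 1, 0, 1, 3, 1, 0, 1, 3, 1, 0, 1, 3, 1, 0, 1, 3, 1, 0, 1, 3, 1, 0, 3, 0, 3, 0, 3, 3, 1, 0, 2, 3, 2, 0, 3, 0, 3, 0, 3, 3, 1, 0, 2, 3, 2, 0, 3, 0, 3, 0, 3, 3, 1, 0, 2, 3, 2, 0, 3, 0, 3, 0, 3, 3, 1, 0, 2, 3,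 2, 3, 0, 3, 1, 0, 2, 4, 0, 4, 1, 3, 0, 2, 0, 2, 3, 2, 0, 1, 3, 0, 1, 4, 1, 0, 4, 0, 1],
  [0, 1, 3, 1, 0, 1, 3, 1, 0, 1, 3, 1, 0, 1, 3, 1, 0, 1, 3, 1, 0, 1, 3, 1, 0, 1, 3, 1, 0, 1, 3, 1, 0, 1, 3, 1, 0, 1, 3, 1, 0, 1, 3, 1, 0, 1, 3, 1, 0, 1, 3, 1, 0, 1, 3, 1, 0, 1, 3, 1, 0, 1, 3, 1, 0, 3, 0, 3, 0, 3, 3, 1, 0, 2, 3, 2, 0, 3, 0, 3, 0, 3, 3, 1, 0, 2, 3, 2, 0, 3, 0, 3, 0, 3, 3, 1, 0, 2, 3, 2, 0, 3, 0, 3, 0, 3, 3, 1, 0, 2, 3, 2, 0, 3, 0, 3, 0, 3, 3, 1, 0, 2, 3, 2, 0, 3, 0, 3, 0, 3, 3, 1, 0, 2, 3, 2, 0, 1, 4, 2, 3, 0, 4, 1, 0, 4, 1, 0, 1, 3, 1, 2, 0, 4, 0, 3, 0, 4, 0, 3, 0, 1, 4, 2, 0]]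

end Cfsg.Agent.Lib.Helper4.J3C
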