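import Cfsg.Agent.Lib.Helper4.J3C.K5a
import Cfsg.Agent.Lib.Helper4.J3C.D3

set_option autoImplicit false
set_option maxRecDepth 100000

/-! # Checks of the normal subgroup of order 32 of the centralizer of an involution of `J3` -/

namespace Cfsg.Agent.Lib.Helper4.J3C

open Cfsg.Agent.Lib.Helper6 Cfsg.Agent.Lib.Helper6.TC Cfsg.Agent.Lib.Helper6.TCD
open Cfsg.Agent.Lib.Helper6.PM Cfsg.Agent.Lib.Helper2.PMS Cfsg.Agent.Lib.Helper2.J3M
open Cfsg.Agent.Lib.Helper2.J3Out

theorem qwl_eq : QP.map cw = QWL := by decide +kernel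

theorem chk_comm : QWL.all (fun w => QWL.all fun w' =>
    eqB (w ++ w') (w' ++ w) || eqB (w ++ w') (tw ++ (w' ++ w))) = true := by decide +kernel

theorem chk_sq : QWL.all (fun w => eqB (w ++ w) [] || eqB (w ++ w) tw) = true := by decide +kernel

theorem chk_center : QWL.all (fun w =>
    !(QWL.all fun w' => eqB (w ++ w') (w' ++ w)) || (eqB w [] || eqB w tw)) = true := by
  decide +kernel

theorem chk_rank : QWL.all (fun w => QWL.all fun w' =>
    !(eqB (w ++ w) []) || (!(eqB (w' ++ w') []) || (!(eqB (w ++ w') (w' ++ w)) ||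
      (eqB w' [] || (eqB w' tw || (eqB w' w || (eqB w' (w ++ tw) ||
        (eqB w [] || eqB w tw)))))))) = true := by decide +kernel

theorem t_ne : wappS M.px tw 2655 ≠ 2655 := by decide +kernel

theorem t_sq : eqB (tw ++ tw) [] = true := by decide +kernel

end Cfsg.Agent.Lib.Helper4.J3C
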