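import Cfsg.Agent.Lib.Helper4.J2C.F1
import Cfsg.Agent.Lib.Helper4.J3C.K6a
import Cfsg.Agent.Lib.Helper4.J3C.G2

set_option autoImplicit false
set_option maxRecDepth 100000

/-! # Checks of the data for the fusion in the presented group `J3` -/

namespace Cfsg.Agent.Lib.Helper4.J3C

open Cfsg.Agent.Lib.Helper6 Cfsg.Agent.Lib.Helper6.TC Cfsg.Agent.Lib.Helper6.TCD
open Cfsg.Agent.Lib.Helper6.PM Cfsg.Agent.Lib.Helper2.PMS Cfsg.Agent.Lib.Helper2.J3M
open Cfsg.Agent.Lib.Helper2.J3Out

/-- the labels of the images of the five points with given labels -/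
def labF (f : ℕ → ℕ) : List ℕ := [0, 1, 2, 3, 4].map fun i => lab (f (rp i))

/-- whether a word acts on the blocks as an element of the four group -/
noncomputable def isV (w : List ℕ) : Bool := J2C.VLab.contains (labF (wappS M.px w))

/-- the pairs of words of the elements of the Sylow subgroup -/
noncomputable def SP : List (List ℕ × List ℕ) := CP.filter fun p => isV (cw p)

theorem length_SP : SP.length = 128 := by decide +kernel

/-- membership of a pair of words in the list of the elements of the centralizer -/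
def inCP (p : List ℕ × List ℕ) : Bool := CXW.contains p.1 && CPW.contains p.2

theorem chk_inCP : [PD1, PD2, PD3, PA, PB].all inCP = true := by decide +kernel

theorem chk_isV : [PD1, PD2, PD3].all (fun p => isV (cw p)) = true := by decide +kernel

theorem chk_inv : [PD1, PD2, PD3, PA, PB].all
    (fun p => eqB (cw p ++ cw p) [] && !(eqB (cw p) [])) = true := by decide +kernel

theorem chk_lab_n : labF (wappS M.px (cw PA ++ cw PB)) = [1, 2, 0, 3, 4] := by decide +kernel

theorem chk_qgen : QGEN.all (fun w => QWL.contains w) = true := by decide +kernel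

theorem chk_cent : CP.all (fun p =>
    QGEN.any (fun w' => !(eqB (cw p ++ w') (w' ++ cw p))) || isKer (cw p)) = true := by
  decide +kernel

/-- the image of a tuple of three points -/
def mapT (f : ℕ → ℕ) (p : ℕ × ℕ × ℕ) : ℕ × ℕ × ℕ := (f p.1, f p.2.1, f p.2.2)

/-- the image of the base -/
def tupOf (f : ℕ → ℕ) : ℕ × ℕ × ℕ := (f 804, f 2655, f 0)

/-- the choice of one of three functions -/
def sel (f0 f1 f2 : ℕ → ℕ) (k : ℕ) : ℕ → ℕ := if k = 0 then f0 else if k = 1 then f1 else f2

/-- each tuple of the list is the image of an earlier one under one of three functions -/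
def orbChk (f0 f1 f2 : ℕ → ℕ) : List (ℕ × ℕ × ℕ) → List ((ℕ × ℕ × ℕ) × (ℕ × ℕ × ℕ) × ℕ) → Bool
  | _, [] => true
  | prev, e :: rest =>
    prev.contains e.2.1 && (mapT (sel f0 f1 f2 e.2.2) e.2.1 == e.1) &&
      orbChk f0 f1 f2 (e.1 :: prev) rest

theorem chk_orb : orbChk (wappS M.px (cw PD1)) (wappS M.px (cw PD2)) (wappS M.px (cw PD3))
    [(804, 2655, 0)] ORBP = true := by decide +kernel

theorem chk_SP_orb : SP.all (fun p =>
    ((804, 2655, 0) :: ORBP.map (fun e => e.1)).contains (tupOf (wappS M.px (cw p)))) = true := by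
  decide +kernel

end Cfsg.Agent.Lib.Helper4.J3C
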