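import Cfsg.Agent.Lib.Helper4.J3C.K4
import Cfsg.Agent.Lib.Helper4.J3C.D2

set_option autoImplicit false
set_option maxRecDepth 100000

/-! # Checks of the conjugacy of the involutions of the centralizer of an involution of `J3` -/

namespace Cfsg.Agent.Lib.Helper4.J3C

open Cfsg.Agent.Lib.Helper6 Cfsg.Agent.Lib.Helper6.TC Cfsg.Agent.Lib.Helper6.TCD
open Cfsg.Agent.Lib.Helper6.PM Cfsg.Agent.Lib.Helper2.PMS Cfsg.Agent.Lib.Helper2.J3M
open Cfsg.Agent.Lib.Helper2.J3Out

/-- whether a word gives an involution -/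
noncomputable def isInvB (w : List ℕ) : Bool := eqB (w ++ w) [] && !(eqB w [])

theorem conj_chk : ((CW.zip CONJ).all fun p =>
    !(isInvB p.1) || eqB (p.1 ++ p.2) (p.2 ++ tw)) = true := by decide +kernel

theorem length_CONJ : CONJ.length = 1920 := by decide +kernel

theorem chk_CONJ : chkLetters M CONJ = true := by decide +kernel

end Cfsg.Agent.Lib.Helper4.J3C
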