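import Cfsg.Agent.Lib.Helper4.J3C.K7
import Cfsg.Agent.Lib.Helper4.J3C.K8a

set_option autoImplicit false

/-! # The involutions of `J3` are conjugate -/

namespace Cfsg.Agent.Lib.Helper4.J3C

open Cfsg.Agent.Lib.Helper6 Cfsg.Agent.Lib.Helper6.TC Cfsg.Agent.Lib.Helper6.TCD
open Cfsg.Agent.Lib.Helper6.PM Cfsg.Agent.Lib.Helper2.PMS Cfsg.Agent.Lib.Helper2.J3M
open Cfsg.Agent.Lib.Helper2.J3Out

theorem exists_mem_zip {α β : Type*} (l1 : List α) (l2 : List β) (h : l1.length ≤ l2.length)
    {a : α} (ha : a ∈ l1) : ∃ b ∈ l2, (a, b) ∈ l1.zip l2 := by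
  obtain ⟨i, hi, rfl⟩ := List.getElem_of_mem ha
  have hi2 : i < l2.length := lt_of_lt_of_le hi h
  refine ⟨l2[i], List.getElem_mem _, ?_⟩
  have hz : i < (l1.zip l2).length := by
    rw [List.length_zip]
    exact lt_min hi hi2
  have : (l1.zip l2)[i] = (l1[i], l2[i]) := List.getElem_zip
  rw [← this]
  exact List.getElem_mem _

/-- the involutions of the centralizer are conjugate to the involution -/
theorem isConj_of_mem_Cn {c : M.G} (hc : c ∈ Cn) (h2 : c * c = 1) (h1 : c ≠ 1) : IsConj c t := by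
  obtain ⟨w, hw, rfl⟩ := exists_of_mem_Cn hc
  have cw1 := chkW_CW hw
  obtain ⟨g, hg, hz⟩ := exists_mem_zip CW CONJ (by rw [length_CW, length_CONJ]) hw
  have cg := chkW_of_chkLetters CONJ chk_CONJ g hg
  have h := List.all_eq_true.mp conj_chk (w, g) hz
  rw [Bool.or_eq_true] at h
  rcases h with h | h
  · exfalso
    rw [Bool.not_eq_true', ← Bool.not_eq_true] at h
    apply h
    unfold isInvB
    rw [Bool.and_eq_true]
    constructor
    · apply eqB_of_elt_eq _ _ (chkW_append _ _ cw1 cw1) chkW_nil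
      rw [M.elt_append w w, M.elt_nil]
      exact h2
    · rw [Bool.not_eq_true', ← Bool.not_eq_true]
      intro h3
      apply h1
      have := elt_eq_of_eqB _ _ cw1 chkW_nil h3
      rw [M.elt_nil] at this
      exact this
  · have e := elt_eq_of_eqB _ _ (chkW_append _ _ cw1 cg) (chkW_append _ _ cg chk_tw) h
    rw [M.elt_append w g, M.elt_append g tw] at e
    rw [isConj_iff]
    refine ⟨(M.elt g)⁻¹, ?_⟩
    rw [inv_inv, mul_assoc, e, ← mul_assoc, inv_mul_cancel, one_mul]
    rfl

/-- an involution of a finite group is conjugate to an element of a subgroup whose order has the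
same power of two as the order of the group -/
theorem exists_conj_mem_of_two_part {G : Type*} [Group G] [Finite G] (C : Subgroup G)
    (h : (Nat.card G).factorization 2 = (Nat.card C).factorization 2) (u : G)
    (hu : orderOf u = 2) : ∃ g : G, g * u * g⁻¹ ∈ C := by
  haveI : Fact (Nat.Prime 2) := ⟨Nat.prime_two⟩
  have hP : IsPGroup 2 (Subgroup.zpowers u) :=
    IsPGroup.of_card (n := 1) (by rw [Nat.card_zpowers, hu, pow_one])
  obtain ⟨P, hle⟩ := hP.exists_le_sylow
  let S0 : Sylow 2 ↥C := default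
  have hS0 : Nat.card (S0 : Subgroup ↥C) = 2 ^ (Nat.card C).factorization 2 :=
    S0.card_eq_multiplicity
  have hS : Nat.card ((S0 : Subgroup ↥C).map C.subtype) = 2 ^ (Nat.card G).factorization 2 := by
    rw [Subgroup.card_map_of_injective (Subgroup.subtype_injective _), hS0, h]
  let S : Sylow 2 G := Sylow.ofCard ((S0 : Subgroup ↥C).map C.subtype) hS
  obtain ⟨g, hg⟩ := MulAction.exists_smul_eq G P S
  refine ⟨g, ?_⟩
  have huP : u ∈ (P : Subgroup G) := hle (Subgroup.mem_zpowers u)
  have h1 : g * u * g⁻¹ ∈ (S : Subgroup G) := by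
    rw [← hg, Sylow.coe_subgroup_smul, Subgroup.mem_pointwise_smul_iff_inv_smul_mem]
    simp only [MulAut.smul_def, MulAut.conj_inv_apply]
    have : g⁻¹ * (g * u * g⁻¹) * g = u := by group
    rw [this]
    exact huP
  have h2 : g * u * g⁻¹ ∈ (S0 : Subgroup ↥C).map C.subtype := h1
  obtain ⟨c, _, e⟩ := Subgroup.mem_map.mp h2
  rw [← e]
  exact c.2

theorem two_part_G : (Nat.card M.G).factorization 2 = 7 := by
  have hc : Nat.card M.G = 50232960 := card_G
  rw [hc]
  have h1 : 7 ≤ (50232960 : ℕ).factorization 2 :=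
    (Nat.prime_two.pow_dvd_iff_le_factorization (by norm_num)).mp (by norm_num)
  have h2 : ¬ 8 ≤ (50232960 : ℕ).factorization 2 := by
    intro h
    have := (Nat.prime_two.pow_dvd_iff_le_factorization (by norm_num)).mpr h
    norm_num at this
  omega

theorem two_part_Cn : (Nat.card Cn).factorization 2 = 7 := by
  rw [card_Cn]
  have h1 : 7 ≤ (1920 : ℕ).factorization 2 :=
    (Nat.prime_two.pow_dvd_iff_le_factorization (by norm_num)).mp (by norm_num)
  have h2 : ¬ 8 ≤ (1920 : ℕ).factorization 2 := by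
    intro h
    have := (Nat.prime_two.pow_dvd_iff_le_factorization (by norm_num)).mpr h
    norm_num at this
  omega

theorem orderOf_t : orderOf t = 2 :=
  orderOf_eq_prime (by rw [pow_two]; exact t_sq_eq) t_ne_one

/-- every involution is conjugate to the involution -/
theorem isConj_t (u : M.G) (hu : orderOf u = 2) : IsConj u t := by
  obtain ⟨g, hg⟩ := exists_conj_mem_of_two_part Cn (by rw [two_part_G, two_part_Cn]) u hu
  have hu2 : u * u = 1 := by rw [← pow_two, ← hu, pow_orderOf_eq_one]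
  have hu1 : u ≠ 1 := by
    intro h
    rw [h, orderOf_one] at hu
    exact absurd hu (by norm_num)
  have h2 : g * u * g⁻¹ * (g * u * g⁻¹) = 1 := by
    have : g * u * g⁻¹ * (g * u * g⁻¹) = g * (u * u) * g⁻¹ := by group
    rw [this, hu2, mul_one, mul_inv_cancel]
  have h1 : g * u * g⁻¹ ≠ 1 := by
    intro h
    apply hu1
    have : u = g⁻¹ * (g * u * g⁻¹) * g := by group
    rw [this, h, mul_one, inv_mul_cancel]
  have h3 : IsConj u (g * u * g⁻¹) := isConj_iff.mpr ⟨g, rfl⟩
  exact h3.trans (isConj_of_mem_Cn hg h2 h1)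

theorem isConj_of_orderOf_two (x y : M.G) (hx : orderOf x = 2) (hy : orderOf y = 2) : IsConj x y :=
  (isConj_t x hx).trans (isConj_t y hy).symm

end Cfsg.Agent.Lib.Helper4.J3C
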