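import Cfsg.Agent.Lib.Helper4.J3C.G2a
import Cfsg.Agent.Lib.Helper4.J3C.K8
import Cfsg.Agent.Lib.Helper9.L3Fus10

set_option autoImplicit false

/-! # A Sylow subgroup of the presented group `J3`, its centralizer and its normalizer -/

namespace Cfsg.Agent.Lib.Helper4.J3C

open Cfsg.Agent.Lib.Helper6 Cfsg.Agent.Lib.Helper6.TC Cfsg.Agent.Lib.Helper6.TCD
open Cfsg.Agent.Lib.Helper6.PM Cfsg.Agent.Lib.Helper2.PMS Cfsg.Agent.Lib.Helper2.J3M
open Cfsg.Agent.Lib.Helper2.J3Out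
open Cfsg.Agent.Lib.Helper4.J2C (labs VLab vv cc V4 mem_V4 labs_injective V_sign labs_vv labs_cc_inv
  V_conj_cc V_conj_cc' V_norm)
open Classical
open Equiv

/-- the Sylow subgroup: the elements of the centralizer acting on the blocks as the four group -/
noncomputable def Sn : Subgroup M.G := (V4.comap theta).map Cn.subtype

theorem mem_Sn {g : M.G} : g ∈ Sn ↔ ∃ h : g ∈ Cn, theta ⟨g, h⟩ ∈ V4 := by
  unfold Sn
  rw [Subgroup.mem_map]
  constructor
  · rintro ⟨c, hc, rfl⟩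
    exact ⟨c.2, hc⟩
  · rintro ⟨h, hc⟩
    exact ⟨⟨g, h⟩, hc, rfl⟩

theorem Sn_le_Cn : Sn ≤ Cn := fun _ hg => (mem_Sn.mp hg).1

theorem Qn_le_Sn : Qn ≤ Sn := by
  intro g hg
  obtain ⟨h, hk⟩ := mem_Qn.mp hg
  rw [mem_Sn]
  refine ⟨h, ?_⟩
  rw [MonoidHom.mem_ker] at hk
  rw [hk]
  exact Subgroup.one_mem _

/-- a function on the natural numbers gives the action of an element of the group -/
def EvW (f : ℕ → ℕ) (g : M.G) : Prop := ∀ q, q < 6156 → ra g q = f q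

theorem EvW.mul {f f' : ℕ → ℕ} {g h : M.G} (hg : EvW f g) (hh : EvW f' h) :
    EvW (fun q => f' (f q)) (g * h) := by
  intro q hq
  rw [ra_mul, hh _ (ra_lt g q), hg q hq]

theorem evW_elt {w : List ℕ} (hw : chkW M w = true) : EvW (wappS M.px w) (M.elt w) :=
  fun q hq => ra_elt w hw q hq

theorem evW_one : EvW (fun q => q) 1 := fun q hq => ra_one q hq

/-- the labels given by an element of the centralizer with a known action -/
theorem labs_theta_inv {f : ℕ → ℕ} {g : M.G} (hg : g ∈ Cn) (hf : EvW f g) :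
    labs (theta ⟨g, hg⟩)⁻¹ = labF f := by
  have key : ∀ i : Fin 5, ((theta ⟨g, hg⟩)⁻¹ i).val = lab (f (rp i.val)) := by
    intro i
    rw [← map_inv, theta_apply]
    have : (((⟨g, hg⟩ : ↥Cn)⁻¹ : ↥Cn) : M.G)⁻¹ = g := by
      rw [Subgroup.coe_inv, inv_inv]
    rw [this, hf _ (rp_lt i)]
  unfold labs labF
  have h5 : List.finRange 5 = [0, 1, 2, 3, 4] := by decide
  rw [h5]
  simp only [List.map_cons, List.map_nil]
  rw [key 0, key 1, key 2, key 3, key 4]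
  rfl

theorem mem_Sn_iff_of_ev {f : ℕ → ℕ} {g : M.G} (hg : g ∈ Cn) (hf : EvW f g) :
    g ∈ Sn ↔ labF f ∈ VLab := by
  rw [mem_Sn]
  constructor
  · rintro ⟨h, hv⟩
    have := V4.inv_mem hv
    rw [mem_V4, labs_theta_inv hg hf] at this
    exact this
  · intro h
    refine ⟨hg, ?_⟩
    have h2 : (theta ⟨g, hg⟩)⁻¹ ∈ V4 := by
      rw [mem_V4, labs_theta_inv hg hf]
      exact h
    have := V4.inv_mem h2
    rwa [inv_inv] at this

theorem mem_SP {p : List ℕ × List ℕ} : p ∈ SP ↔ p ∈ CP ∧ isV (cw p) = true := by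
  unfold SP
  rw [List.mem_filter]

theorem SP_nodup : SP.Nodup := CP_nodup.filter _

theorem isV_iff {w : List ℕ} : isV w = true ↔ labF (wappS M.px w) ∈ VLab := by
  unfold isV
  exact List.contains_iff_mem

theorem elt_mem_Sn {p : List ℕ × List ℕ} (h : p ∈ SP) : M.elt (cw p) ∈ Sn := by
  rw [mem_SP] at h
  rw [mem_Sn_iff_of_ev (elt_pair_mem_Cn h.1) (evW_elt (chkW_cw h.1))]
  exact isV_iff.mp h.2

theorem exists_of_mem_Sn {g : M.G} (h : g ∈ Sn) : ∃ p ∈ SP, g = M.elt (cw p) := by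
  obtain ⟨p, hp, rfl⟩ := exists_pair_of_mem_Cn (Sn_le_Cn h)
  refine ⟨p, ?_, rfl⟩
  rw [mem_SP]
  refine ⟨hp, ?_⟩
  rw [isV_iff]
  exact (mem_Sn_iff_of_ev (elt_pair_mem_Cn hp) (evW_elt (chkW_cw hp))).mp h

theorem card_Sn : Nat.card Sn = 128 := by
  rw [card_of_list Sn SP (fun _ h => (mem_SP.mp h).1) SP_nodup (fun _ h => elt_mem_Sn h)
    (fun _ h => exists_of_mem_Sn h), length_SP]

/-! ## Centralizers -/

theorem chkW_QGEN {w : List ℕ} (hw : w ∈ QGEN) : chkW M w = true :=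
  chkW_QWL (List.contains_iff_mem.mp (List.all_eq_true.mp chk_qgen w hw))

theorem elt_QGEN_mem {w : List ℕ} (hw : w ∈ QGEN) : M.elt w ∈ Qn :=
  elt_mem_Qn' (List.contains_iff_mem.mp (List.all_eq_true.mp chk_qgen w hw))

/-- the normal subgroup of order 32 contains its centralizer -/
theorem mem_Qn_of_comm {x : M.G} (hx : ∀ r ∈ Qn, x * r = r * x) : x ∈ Qn := by
  have hc : x ∈ Cn := mem_Cn.mpr (hx t t_mem_Qn)
  obtain ⟨p, hp, rfl⟩ := exists_pair_of_mem_Cn hc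
  have h := List.all_eq_true.mp chk_cent p hp
  rw [Bool.or_eq_true] at h
  rcases h with h | h
  · exfalso
    rw [List.any_eq_true] at h
    obtain ⟨w', hw', hn⟩ := h
    rw [Bool.not_eq_true', ← Bool.not_eq_true] at hn
    apply hn
    have c1 := chkW_cw hp
    have c2 := chkW_QGEN hw'
    apply eqB_of_elt_eq _ _ (chkW_append _ _ c1 c2) (chkW_append _ _ c2 c1)
    rw [M.elt_append (cw p) w', M.elt_append w' (cw p)]
    exact hx _ (elt_QGEN_mem hw')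
  · exact elt_mem_Qn (mem_QP.mpr ⟨hp, h⟩)

/-- the center of the Sylow subgroup has order two -/
theorem center_Sn {x : M.G} (hc : ∀ s ∈ Sn, x * s = s * x) : x = 1 ∨ x = t := by
  have hq : x ∈ Qn := mem_Qn_of_comm fun r hr => hc r (Qn_le_Sn hr)
  exact center_cases hq fun y hy => hc y (Qn_le_Sn hy)

/-- the Sylow subgroup contains its centralizer -/
theorem mem_Sn_of_comm {x : M.G} (hx : ∀ r ∈ Sn, x * r = r * x) : x ∈ Sn :=
  Qn_le_Sn (mem_Qn_of_comm fun r hr => hx r (Qn_le_Sn hr))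

/-- the normalizer of the Sylow subgroup is contained in the centralizer of the involution -/
theorem normalizer_le_Cn {g : M.G} (hg : g ∈ Subgroup.normalizer (Sn : Set M.G)) : g ∈ Cn := by
  rw [Subgroup.mem_normalizer_iff] at hg
  have h2 : ∀ s ∈ Sn, (g * t * g⁻¹) * s = s * (g * t * g⁻¹) := by
    intro s hs
    have h3 : g⁻¹ * s * g ∈ Sn := by
      rw [hg (g⁻¹ * s * g)]
      have : g * (g⁻¹ * s * g) * g⁻¹ = s := by group
      rw [this]
      exact hs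
    have h4 := mem_Cn.mp (Sn_le_Cn h3)
    calc g * t * g⁻¹ * s = g * (t * (g⁻¹ * s * g)) * g⁻¹ := by group
      _ = g * ((g⁻¹ * s * g) * t) * g⁻¹ := by rw [← h4]
      _ = s * (g * t * g⁻¹) := by group
  rcases center_Sn h2 with h | h
  · exfalso
    apply t_ne_one
    have : t = g⁻¹ * (g * t * g⁻¹) * g := by group
    rw [this, h]
    group
  · rw [mem_Cn]
    calc g * t = (g * t * g⁻¹) * g := by group
      _ = t * g := by rw [h]

/-! ## The element of order three of the normalizer -/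

theorem inCP_iff {p : List ℕ × List ℕ} : inCP p = true ↔ p ∈ CP := by
  unfold inCP
  rw [mem_CP]
  simp only [Bool.and_eq_true, List.contains_iff_mem]

theorem PD1_mem : PD1 ∈ CP := inCP_iff.mp (List.all_eq_true.mp chk_inCP PD1 (by simp))
theorem PD2_mem : PD2 ∈ CP := inCP_iff.mp (List.all_eq_true.mp chk_inCP PD2 (by simp))
theorem PD3_mem : PD3 ∈ CP := inCP_iff.mp (List.all_eq_true.mp chk_inCP PD3 (by simp))
theorem PA_mem : PA ∈ CP := inCP_iff.mp (List.all_eq_true.mp chk_inCP PA (by simp))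
theorem PB_mem : PB ∈ CP := inCP_iff.mp (List.all_eq_true.mp chk_inCP PB (by simp))

theorem PD1_mem_SP : PD1 ∈ SP := mem_SP.mpr ⟨PD1_mem, List.all_eq_true.mp chk_isV PD1 (by simp)⟩
theorem PD2_mem_SP : PD2 ∈ SP := mem_SP.mpr ⟨PD2_mem, List.all_eq_true.mp chk_isV PD2 (by simp)⟩
theorem PD3_mem_SP : PD3 ∈ SP := mem_SP.mpr ⟨PD3_mem, List.all_eq_true.mp chk_isV PD3 (by simp)⟩

/-- the listed elements are involutions -/
theorem inv_of_chk {p : List ℕ × List ℕ} (hp : p ∈ CP)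
    (h : (eqB (cw p ++ cw p) [] && !(eqB (cw p) [])) = true) :
    M.elt (cw p) * M.elt (cw p) = 1 ∧ M.elt (cw p) ≠ 1 := by
  rw [Bool.and_eq_true] at h
  have c1 := chkW_cw hp
  constructor
  · have := elt_eq_of_eqB _ _ (chkW_append _ _ c1 c1) chkW_nil h.1
    rw [M.elt_append (cw p) (cw p), M.elt_nil] at this
    exact this
  · intro h1
    have h2 := h.2
    rw [Bool.not_eq_true', ← Bool.not_eq_true] at h2
    apply h2
    apply eqB_of_elt_eq _ _ c1 chkW_nil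
    rw [M.elt_nil]
    exact h1

theorem inv_PD1 : M.elt (cw PD1) * M.elt (cw PD1) = 1 ∧ M.elt (cw PD1) ≠ 1 :=
  inv_of_chk PD1_mem (List.all_eq_true.mp chk_inv PD1 (by simp))
theorem inv_PD2 : M.elt (cw PD2) * M.elt (cw PD2) = 1 ∧ M.elt (cw PD2) ≠ 1 :=
  inv_of_chk PD2_mem (List.all_eq_true.mp chk_inv PD2 (by simp))
theorem inv_PD3 : M.elt (cw PD3) * M.elt (cw PD3) = 1 ∧ M.elt (cw PD3) ≠ 1 :=
  inv_of_chk PD3_mem (List.all_eq_true.mp chk_inv PD3 (by simp))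
theorem inv_PA : M.elt (cw PA) * M.elt (cw PA) = 1 ∧ M.elt (cw PA) ≠ 1 :=
  inv_of_chk PA_mem (List.all_eq_true.mp chk_inv PA (by simp))
theorem inv_PB : M.elt (cw PB) * M.elt (cw PB) = 1 ∧ M.elt (cw PB) ≠ 1 :=
  inv_of_chk PB_mem (List.all_eq_true.mp chk_inv PB (by simp))

/-- the element of order three modulo the normal subgroup, a product of two involutions -/
noncomputable def nn : M.G := M.elt (cw PA) * M.elt (cw PB)

theorem nn_mem_Cn : nn ∈ Cn :=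
  Subgroup.mul_mem _ (elt_pair_mem_Cn PA_mem) (elt_pair_mem_Cn PB_mem)

theorem ev_nn : EvW (wappS M.px (cw PA ++ cw PB)) nn := by
  unfold nn
  rw [← M.elt_append]
  exact evW_elt (chkW_append _ _ (chkW_cw PA_mem) (chkW_cw PB_mem))

theorem theta_nn : theta ⟨nn, nn_mem_Cn⟩ = cc := by
  apply inv_injective
  apply labs_injective
  rw [labs_theta_inv nn_mem_Cn ev_nn, chk_lab_n, labs_cc_inv]

theorem exists_orderOf_of_sq {x : M.G} (h : x * x = 1) : ∃ j : ℕ, orderOf x = 2 ^ j := by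
  have hd : orderOf x ∣ 2 := orderOf_dvd_of_pow_eq_one (by rw [pow_two, h])
  rcases (Nat.dvd_prime Nat.prime_two).mp hd with h1 | h1
  · exact ⟨0, by rw [h1, pow_zero]⟩
  · exact ⟨1, by rw [h1, pow_one]⟩

/-- the centralizer of the involution normalizes the normal subgroup of order 32 -/
theorem mem_normalizer_Qn {c : M.G} (hc : c ∈ Cn) : c ∈ Subgroup.normalizer (Qn : Set M.G) := by
  have key : ∀ {d : M.G} (hd : d ∈ Cn) {x : M.G}, x ∈ Qn → d * x * d⁻¹ ∈ Qn := by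
    intro d hd x hx
    obtain ⟨h1, h2⟩ := mem_Qn.mp hx
    refine mem_Qn.mpr ⟨Subgroup.mul_mem _ (Subgroup.mul_mem _ hd h1) (Subgroup.inv_mem _ hd), ?_⟩
    have : (⟨d * x * d⁻¹, Subgroup.mul_mem _ (Subgroup.mul_mem _ hd h1) (Subgroup.inv_mem _ hd)⟩ : ↥Cn) =
        ⟨d, hd⟩ * ⟨x, h1⟩ * ⟨d, hd⟩⁻¹ := rfl
    rw [this]
    exact (MonoidHom.normal_ker theta).conj_mem _ h2 _
  rw [Subgroup.mem_normalizer_iff]
  intro x
  constructor
  · exact key hc
  · intro hx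
    have := key (Subgroup.inv_mem _ hc) hx
    have e : c⁻¹ * (c * x * c⁻¹) * c⁻¹⁻¹ = x := by group
    rwa [e] at this

theorem nn_mem_normalizer : nn ∈ Subgroup.normalizer (Sn : Set M.G) := by
  have key : ∀ {s : M.G}, s ∈ Sn → nn * s * nn⁻¹ ∈ Sn := by
    intro s hs
    obtain ⟨h1, h2⟩ := mem_Sn.mp hs
    have hm : nn * s * nn⁻¹ ∈ Cn :=
      Subgroup.mul_mem _ (Subgroup.mul_mem _ nn_mem_Cn h1) (Subgroup.inv_mem _ nn_mem_Cn)
    refine mem_Sn.mpr ⟨hm, ?_⟩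
    have : (⟨nn * s * nn⁻¹, hm⟩ : ↥Cn) = ⟨nn, nn_mem_Cn⟩ * ⟨s, h1⟩ * ⟨nn, nn_mem_Cn⟩⁻¹ := rfl
    rw [this, map_mul, map_mul, map_inv, theta_nn]
    exact V_conj_cc _ h2
  have key' : ∀ {s : M.G}, s ∈ Sn → nn⁻¹ * s * nn ∈ Sn := by
    intro s hs
    obtain ⟨h1, h2⟩ := mem_Sn.mp hs
    have hm : nn⁻¹ * s * nn ∈ Cn :=
      Subgroup.mul_mem _ (Subgroup.mul_mem _ (Subgroup.inv_mem _ nn_mem_Cn) h1) nn_mem_Cn
    refine mem_Sn.mpr ⟨hm, ?_⟩
    have : (⟨nn⁻¹ * s * nn, hm⟩ : ↥Cn) = ⟨nn, nn_mem_Cn⟩⁻¹ * ⟨s, h1⟩ * ⟨nn, nn_mem_Cn⟩ := rfl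
    rw [this, map_mul, map_mul, map_inv, theta_nn]
    exact V_conj_cc' _ h2
  rw [Subgroup.mem_normalizer_iff]
  intro s
  constructor
  · exact key
  · intro hs
    have := key' hs
    have e : nn⁻¹ * (nn * s * nn⁻¹) * nn = s := by group
    rwa [e] at this

/-- the normalizer of the Sylow subgroup is generated by it and one more element -/
theorem mem_closure_of_normalizer {g : M.G} (hg : g ∈ Subgroup.normalizer (Sn : Set M.G)) :
    g ∈ Subgroup.closure ((Sn : Set M.G) ∪ {nn}) := by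
  have hc := normalizer_le_Cn hg
  have hsign : Perm.sign (theta ⟨g, hc⟩) = 1 := by
    have : theta ⟨g, hc⟩ ∈ theta.range := ⟨_, rfl⟩
    rw [range_eq] at this
    exact Perm.mem_alternatingGroup.mp this
  have hv : vv ∈ theta.range := by
    rw [range_eq]
    exact Perm.mem_alternatingGroup.mpr (V_sign vv labs_vv)
  obtain ⟨s0, hs0⟩ := hv
  have hs0S : (s0 : M.G) ∈ Sn := mem_Sn.mpr ⟨s0.2, by
    show theta s0 ∈ V4
    rw [hs0]
    exact labs_vv⟩
  have hconj : g * s0 * g⁻¹ ∈ Sn := ((Subgroup.mem_normalizer_iff.mp hg) s0).mp hs0S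
  obtain ⟨h1, h2⟩ := mem_Sn.mp hconj
  have e : theta ⟨g * s0 * g⁻¹, h1⟩ = theta ⟨g, hc⟩ * vv * (theta ⟨g, hc⟩)⁻¹ := by
    have : (⟨g * s0 * g⁻¹, h1⟩ : ↥Cn) = ⟨g, hc⟩ * s0 * ⟨g, hc⟩⁻¹ := rfl
    rw [this, map_mul, map_mul, map_inv, hs0]
  rw [e, mem_V4] at h2
  have hS : ∀ x ∈ Sn, x ∈ Subgroup.closure ((Sn : Set M.G) ∪ {nn}) :=
    fun x hx => Subgroup.subset_closure (Or.inl hx)
  have hn : nn ∈ Subgroup.closure ((Sn : Set M.G) ∪ {nn}) := Subgroup.subset_closure (Or.inr rfl)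
  rcases V_norm _ hsign h2 with h | h | h
  · exact hS _ (mem_Sn.mpr ⟨hc, h⟩)
  · have hm : g * nn ∈ Cn := Subgroup.mul_mem _ hc nn_mem_Cn
    have h3 : g * nn ∈ Sn := mem_Sn.mpr ⟨hm, by
      have : (⟨g * nn, hm⟩ : ↥Cn) = ⟨g, hc⟩ * ⟨nn, nn_mem_Cn⟩ := rfl
      rw [this, map_mul, theta_nn]
      exact h⟩
    have : g = (g * nn) * nn⁻¹ := by group
    rw [this]
    exact Subgroup.mul_mem _ (hS _ h3) (Subgroup.inv_mem _ hn)
  · have hm : g * nn * nn ∈ Cn := Subgroup.mul_mem _ (Subgroup.mul_mem _ hc nn_mem_Cn) nn_mem_Cn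
    have h3 : g * nn * nn ∈ Sn := mem_Sn.mpr ⟨hm, by
      have : (⟨g * nn * nn, hm⟩ : ↥Cn) = ⟨g, hc⟩ * ⟨nn, nn_mem_Cn⟩ * ⟨nn, nn_mem_Cn⟩ := rfl
      rw [this, map_mul, map_mul, theta_nn]
      exact h⟩
    have : g = (g * nn * nn) * nn⁻¹ * nn⁻¹ := by group
    rw [this]
    exact Subgroup.mul_mem _ (Subgroup.mul_mem _ (hS _ h3) (Subgroup.inv_mem _ hn))
      (Subgroup.inv_mem _ hn)

end Cfsg.Agent.Lib.Helper4.J3C
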