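import Cfsg.Agent.Lib.Helper4.J3C.G3
import Cfsg.Agent.Lib.Helper9.AltFus0

set_option autoImplicit false

/-! # The fusion system of the presented group `J3` at the prime two is simple -/

namespace Cfsg.Agent.Lib.Helper4.J3C

open Cfsg.Agent.Lib.Helper6 Cfsg.Agent.Lib.Helper6.TC Cfsg.Agent.Lib.Helper6.TCD
open Cfsg.Agent.Lib.Helper6.PM Cfsg.Agent.Lib.Helper2.PMS Cfsg.Agent.Lib.Helper2.J3M
open Cfsg.Agent.Lib.Helper2.J3Out
open Classical

/-- an element with a given image of the base -/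
def HasT (g : M.G) (p : ℕ × ℕ × ℕ) : Prop :=
  ra g 804 = p.1 ∧ ra g 2655 = p.2.1 ∧ ra g 0 = p.2.2

theorem HasT.mul {g x : M.G} {p : ℕ × ℕ × ℕ} {f : ℕ → ℕ} (hg : HasT g p) (hx : EvW f x) :
    HasT (g * x) (mapT f p) := by
  obtain ⟨h0, h1, h2⟩ := hg
  refine ⟨?_, ?_, ?_⟩
  · rw [ra_mul, hx _ (ra_lt _ _), h0]; rfl
  · rw [ra_mul, hx _ (ra_lt _ _), h1]; rfl
  · rw [ra_mul, hx _ (ra_lt _ _), h2]; rfl

theorem hasT_of_ev {f : ℕ → ℕ} {g : M.G} (h : EvW f g) : HasT g (tupOf f) :=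
  ⟨h 804 (by norm_num), h 2655 (by norm_num), h 0 (by norm_num)⟩

theorem eq_of_hasT {g h : M.G} {p : ℕ × ℕ × ℕ} (hg : HasT g p) (hh : HasT h p) : g = h :=
  eq_of_ra g h (hg.1.trans hh.1.symm) (hg.2.1.trans hh.2.1.symm) (hg.2.2.trans hh.2.2.symm)

theorem orb_sound (T : Subgroup M.G) (f0 f1 f2 : ℕ → ℕ) (h0 : ∃ x ∈ T, EvW f0 x)
    (h1 : ∃ x ∈ T, EvW f1 x) (h2 : ∃ x ∈ T, EvW f2 x) :
    ∀ (L : List ((ℕ × ℕ × ℕ) × (ℕ × ℕ × ℕ) × ℕ)) (prev : List (ℕ × ℕ × ℕ)),
      orbChk f0 f1 f2 prev L = true →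
      (∀ p ∈ prev, ∃ g ∈ T, HasT g p) → ∀ e ∈ L, ∃ g ∈ T, HasT g e.1 := by
  have hsel : ∀ k, ∃ x ∈ T, EvW (sel f0 f1 f2 k) x := by
    intro k
    unfold sel
    split_ifs
    · exact h0
    · exact h1
    · exact h2
  intro L
  induction L with
  | nil => intro _ _ _ e he; simp at he
  | cons e0 rest ih =>
    intro prev h hprev e he
    unfold orbChk at h
    rw [Bool.and_eq_true, Bool.and_eq_true] at h
    obtain ⟨⟨ha, hb⟩, hc⟩ := h
    have hgood : ∃ g ∈ T, HasT g e0.1 := by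
      rw [List.contains_iff_mem] at ha
      rw [beq_iff_eq] at hb
      obtain ⟨g, hgT, hg⟩ := hprev _ ha
      obtain ⟨x, hxT, hx⟩ := hsel e0.2.2
      refine ⟨g * x, Subgroup.mul_mem _ hgT hxT, ?_⟩
      rw [← hb]
      exact hg.mul hx
    rcases List.mem_cons.mp he with rfl | he'
    · exact hgood
    · refine ih (e0.1 :: prev) hc ?_ e he'
      intro p hp
      rcases List.mem_cons.mp hp with rfl | hp'
      · exact hgood
      · exact hprev p hp'

/-- a nontrivial strongly closed subgroup of the Sylow subgroup is the whole of it -/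
theorem Sn_le_of_closed (T : Subgroup M.G) (hT : T ≤ Sn) (hne : T ≠ ⊥)
    (hcl : ∀ x ∈ T, ∀ g : M.G, g * x * g⁻¹ ∈ Sn → g * x * g⁻¹ ∈ T) : Sn ≤ T := by
  haveI : Fact (Nat.Prime 2) := ⟨Nat.prime_two⟩
  have hP : IsPGroup 2 Sn := IsPGroup.of_card (n := 7) (by rw [card_Sn]; norm_num)
  obtain ⟨z, hzT, hz1, hzc⟩ := Cfsg.Agent.H9L3.exists_central_of_normal' hP hT hne
    (fun g hg x hx => hcl x hx g (Subgroup.mul_mem _ (Subgroup.mul_mem _ hg (hT hx))
      (Subgroup.inv_mem _ hg)))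
  have hz : z = t := by
    rcases center_Sn (fun s hs => (hzc s hs).symm) with h | h
    · exact absurd h hz1
    · exact h
  have ht : t ∈ T := hz ▸ hzT
  -- the involutions of the Sylow subgroup are in the subgroup
  have hinv : ∀ p ∈ SP, M.elt (cw p) * M.elt (cw p) = 1 ∧ M.elt (cw p) ≠ 1 → M.elt (cw p) ∈ T := by
    intro p hp h
    have hconj := isConj_of_mem_Cn (elt_pair_mem_Cn (mem_SP.mp hp).1) h.1 h.2
    rw [isConj_iff] at hconj
    obtain ⟨g, hg⟩ := hconj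
    have e : M.elt (cw p) = g⁻¹ * t * g⁻¹⁻¹ := by
      rw [← hg]
      group
    have := hcl t ht g⁻¹
    rw [← e] at this
    exact this (elt_mem_Sn hp)
  have hd1 := hinv PD1 PD1_mem_SP inv_PD1
  have hd2 := hinv PD2 PD2_mem_SP inv_PD2
  have hd3 := hinv PD3 PD3_mem_SP inv_PD3
  have hstart : ∃ g ∈ T, HasT g (804, 2655, 0) := ⟨1, Subgroup.one_mem _, hasT_of_ev evW_one⟩
  have hall := orb_sound T _ _ _ ⟨_, hd1, evW_elt (chkW_cw PD1_mem)⟩
    ⟨_, hd2, evW_elt (chkW_cw PD2_mem)⟩ ⟨_, hd3, evW_elt (chkW_cw PD3_mem)⟩ ORBP [(804, 2655, 0)]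
    chk_orb (by
      intro p hp
      rw [List.mem_singleton] at hp
      rw [hp]
      exact hstart)
  intro s hs
  obtain ⟨p, hp, rfl⟩ := exists_of_mem_Sn hs
  have hmem := List.all_eq_true.mp chk_SP_orb p hp
  rw [List.contains_iff_mem] at hmem
  have hex : ∃ g ∈ T, HasT g (tupOf (wappS M.px (cw p))) := by
    rcases List.mem_cons.mp hmem with h | h
    · rw [h]; exact hstart
    · obtain ⟨e, he, h'⟩ := List.mem_map.mp h
      rw [← h']
      exact hall e he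
  obtain ⟨g, hgT, hg⟩ := hex
  have : g = M.elt (cw p) := eq_of_hasT hg (hasT_of_ev (evW_elt (chkW_cw (mem_SP.mp hp).1)))
  rw [← this]
  exact hgT

theorem exists_orderOf_of_mem_Sn {x : M.G} (hx : x ∈ Sn) : ∃ j : ℕ, orderOf x = 2 ^ j := by
  have hP : IsPGroup 2 Sn := IsPGroup.of_card (n := 7) (by rw [card_Sn]; norm_num)
  obtain ⟨k, hk⟩ := IsPGroup.iff_orderOf.mp hP ⟨x, hx⟩
  refine ⟨k, ?_⟩
  rw [← hk]
  exact (Subgroup.orderOf_mk x hx).symm

/-- the fusion system at the prime two of a group isomorphic to the presented group is simple -/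
theorem fusion_simple {H : Type*} [Group H] [Finite H] (e : H ≃* M.G) (S : Sylow 2 H) :
    (Cfsg.groupFusionSystem (S : Subgroup H)).IsSimple 2 := by
  haveI : Fact (Nat.Prime 2) := ⟨Nat.prime_two⟩
  refine Cfsg.Agent.H9AF.simple_of_data_hom (e : H →* M.G) e.injective ⊤ ?_ 2 Sn le_top ?_ ?_ ?_
    ((Sn : Set M.G) ∪ {nn}) ?_ ?_ S
  · exact MonoidHom.range_eq_top.mpr e.surjective
  · rw [card_Sn, Subgroup.card_top, two_part_G]
    norm_num
  · intro h
    have := card_Sn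
    rw [h, Subgroup.card_bot] at this
    norm_num at this
  · intro T hT hne hcl
    exact Sn_le_of_closed T hT hne (fun x hx g hg => hcl x hx g (Subgroup.mem_top _) hg)
  · intro g _ hg
    exact mem_closure_of_normalizer hg
  · intro γ hγ
    refine ⟨Subgroup.mem_top _, ?_⟩
    rcases hγ with hγ | hγ
    · refine ⟨Subgroup.le_normalizer hγ, Sn, le_refl _, fun x _ hx => mem_Sn_of_comm hx, ?_⟩
      apply Subgroup.subset_closure
      exact ⟨Subgroup.mem_top _, Subgroup.le_normalizer hγ, exists_orderOf_of_mem_Sn hγ⟩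
    · rw [Set.mem_singleton_iff] at hγ
      rw [hγ]
      refine ⟨nn_mem_normalizer, Qn, Qn_le_Sn, fun x _ hx => mem_Qn_of_comm hx, ?_⟩
      unfold nn
      apply Subgroup.mul_mem
      · apply Subgroup.subset_closure
        exact ⟨Subgroup.mem_top _, mem_normalizer_Qn (elt_pair_mem_Cn PA_mem),
          exists_orderOf_of_sq inv_PA.1⟩
      · apply Subgroup.subset_closure
        exact ⟨Subgroup.mem_top _, mem_normalizer_Qn (elt_pair_mem_Cn PB_mem),
          exists_orderOf_of_sq inv_PB.1⟩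

end Cfsg.Agent.Lib.Helper4.J3C
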