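import Cfsg.Agent.Lib.Helper2.J3Out3

set_option autoImplicit false

/-! # The presented group `J3` on 6156 points: the right action on the numbers of the points -/

namespace Cfsg.Agent.Lib.Helper4.J3C

open Cfsg.Agent.Lib.Helper6 Cfsg.Agent.Lib.Helper6.TC Cfsg.Agent.Lib.Helper6.TCD
open Cfsg.Agent.Lib.Helper6.PM Cfsg.Agent.Lib.Helper2.PMS Cfsg.Agent.Lib.Helper2.J3M
open Cfsg.Agent.Lib.Helper2.J3Out

/-- the right action of the group on the numbers of the points -/
noncomputable def ra (g : M.G) (q : ℕ) : ℕ := (g⁻¹ • pnt M q).val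

theorem ra_lt (g : M.G) (q : ℕ) : ra g q < 6156 := (g⁻¹ • pnt M q).isLt

theorem pnt_ra (g : M.G) (q : ℕ) : pnt M (ra g q) = g⁻¹ • pnt M q := pnt_eq M _

theorem ra_mul (g h : M.G) (q : ℕ) : ra (g * h) q = ra h (ra g q) := by
  unfold ra
  rw [pnt_eq, mul_inv_rev, mul_smul]

theorem ra_one (q : ℕ) (hq : q < 6156) : ra 1 q = q := by
  unfold ra
  rw [inv_one, one_smul]
  exact pnt_val M q hq

theorem ra_elt (w : List ℕ) (hw : chkW M w = true) (q : ℕ) (hq : q < 6156) :
    ra (M.elt w) q = wappS M.px w q := by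
  unfold ra
  rw [inv_elt_smul_pnt M w (lt_of_chkW M w hw) q hq, wappS_eq]
  exact pnt_val M _ (M.wapp_lt w (lt_of_chkW M w hw) q hq)

theorem ra_inj (g : M.G) (q q' : ℕ) (hq : q < 6156) (hq' : q' < 6156) (h : ra g q = ra g q') :
    q = q' := by
  have h1 : g⁻¹ • pnt M q = g⁻¹ • pnt M q' := Fin.ext h
  exact pnt_injOn M q q' hq hq' (smul_left_cancel _ h1)

/-- two elements with the same images of the three base points are equal -/
theorem eq_of_ra (c d : M.G) (hx : ra c 804 = ra d 804) (hy : ra c 2655 = ra d 2655)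
    (h0 : ra c 0 = ra d 0) : c = d := by
  apply facts.eq_of_base nil_mem c d
  · exact Fin.ext hx
  · exact Fin.ext hy
  · intro b hb
    have : b ∈ [0] := hb
    rw [List.mem_singleton] at this
    rw [this]
    exact Fin.ext h0

theorem wappS_lt (w : List ℕ) (hw : chkW M w = true) (q : ℕ) (hq : q < 6156) :
    wappS M.px w q < 6156 := by
  rw [← ra_elt w hw q hq]
  exact ra_lt _ _

theorem chkW_append (u v : List ℕ) (hu : chkW M u = true) (hv : chkW M v = true) :
    chkW M (u ++ v) = true := by
  unfold chkW at *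
  rw [List.all_append, hu, hv]
  rfl

theorem wappS_append (u v : List ℕ) (q : ℕ) :
    wappS M.px (u ++ v) q = wappS M.px v (wappS M.px u q) := by
  rw [wappS_eq, wappS_eq, wappS_eq, wapp_append]

theorem chkW_nil : chkW M [] = true := rfl

theorem wappS_nil (q : ℕ) : wappS M.px [] q = q := rfl

/-- the words acting in the same way on the three base points give the same element -/
noncomputable def eqB (u v : List ℕ) : Bool :=
  (wappS M.px u 804 == wappS M.px v 804) && ((wappS M.px u 2655 == wappS M.px v 2655) &&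
    (wappS M.px u 0 == wappS M.px v 0))

theorem elt_eq_of_eqB (u v : List ℕ) (hu : chkW M u = true) (hv : chkW M v = true)
    (h : eqB u v = true) : M.elt u = M.elt v := by
  unfold eqB at h
  simp only [Bool.and_eq_true, beq_iff_eq] at h
  apply eq_of_ra
  · rw [ra_elt u hu _ (by norm_num), ra_elt v hv _ (by norm_num)]
    exact h.1
  · rw [ra_elt u hu _ (by norm_num), ra_elt v hv _ (by norm_num)]
    exact h.2.1
  · rw [ra_elt u hu _ (by norm_num), ra_elt v hv _ (by norm_num)]
    exact h.2.2

theorem eqB_of_elt_eq (u v : List ℕ) (hu : chkW M u = true) (hv : chkW M v = true)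
    (h : M.elt u = M.elt v) : eqB u v = true := by
  unfold eqB
  simp only [Bool.and_eq_true, beq_iff_eq]
  refine ⟨?_, ?_, ?_⟩
  · rw [← ra_elt u hu _ (by norm_num), ← ra_elt v hv _ (by norm_num), h]
  · rw [← ra_elt u hu _ (by norm_num), ← ra_elt v hv _ (by norm_num), h]
  · rw [← ra_elt u hu _ (by norm_num), ← ra_elt v hv _ (by norm_num), h]

/-- the letters of the words of a list are letters of the model -/
theorem chkW_of_chkLetters (ws : List (List ℕ)) (h : chkLetters M ws = true) (w : List ℕ)
    (hw : w ∈ ws) : chkW M w = true := by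
  unfold chkLetters at h
  rw [List.all_eq_true] at h
  exact h w hw

end Cfsg.Agent.Lib.Helper4.J3C
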