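import Cfsg.Agent.Lib.Helper4.J3C.K1
import Cfsg.Agent.Lib.Helper4.J3C.D1

set_option autoImplicit false
set_option maxRecDepth 100000

/-! # The elements of the stabilizer of a point commuting with the involution -/

namespace Cfsg.Agent.Lib.Helper4.J3C

open Cfsg.Agent.Lib.Helper6 Cfsg.Agent.Lib.Helper6.TC Cfsg.Agent.Lib.Helper6.TCD
open Cfsg.Agent.Lib.Helper6.PM Cfsg.Agent.Lib.Helper2.PMS Cfsg.Agent.Lib.Helper2.J3M
open Cfsg.Agent.Lib.Helper2.J3Out

/-- the check that an element of the stabilizer commuting with the involution is in the list -/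
noncomputable def stabChk (w2 l : List ℕ) : Bool :=
  (!(eqB (l ++ w2 ++ tw) (tw ++ (l ++ w2)))) || CXW.contains (l ++ w2)

theorem stab_chk : D.W2.all (fun w2 => D.L.all fun l => stabChk w2 l) = true := by decide +kernel

end Cfsg.Agent.Lib.Helper4.J3C
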