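import Cfsg.Agent.Lib.Helper4.J3C.K3a
import Cfsg.Agent.Lib.Helper4.J3C.K3b

set_option autoImplicit false

/-! # The elements of the centralizer of an involution of `J3` -/

namespace Cfsg.Agent.Lib.Helper4.J3C

open Cfsg.Agent.Lib.Helper6 Cfsg.Agent.Lib.Helper6.TC Cfsg.Agent.Lib.Helper6.TCD
open Cfsg.Agent.Lib.Helper6.PM Cfsg.Agent.Lib.Helper2.PMS Cfsg.Agent.Lib.Helper2.J3M
open Cfsg.Agent.Lib.Helper2.J3Out

/-- the involution -/
noncomputable def t : M.G := M.elt tw

theorem ra_t (q : ℕ) (hq : q < 6156) : ra t q = wappS M.px tw q := ra_elt tw chk_tw q hq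

theorem t_fix_x : ra t 804 = 804 := by rw [ra_t _ (by norm_num), tw_x]

theorem chkW_W1 {w : List ℕ} (hw : w ∈ D.W1) : chkW M w = true :=
  chkW_of_chkLetters D.W1 facts.hW1 w hw

theorem chkW_W2 {w : List ℕ} (hw : w ∈ D.W2) : chkW M w = true :=
  chkW_of_chkLetters D.W2 facts.hW2 w hw

theorem chkW_L {w : List ℕ} (hw : w ∈ D.L) : chkW M w = true :=
  chkW_of_chkLetters D.L facts.hL w hw

theorem chkW_CXW {w : List ℕ} (hw : w ∈ CXW) : chkW M w = true :=
  chkW_of_chkLetters CXW chk_CXW w hw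

theorem chkW_CPW {w : List ℕ} (hw : w ∈ CPW) : chkW M w = true :=
  chkW_of_chkLetters CPW chk_CPW w hw

theorem fix_of_chkFixes (ws : List (List ℕ)) (q : ℕ) (h : chkFixes M ws q = true) (w : List ℕ)
    (hw : w ∈ ws) : wappS M.px w q = q := by
  unfold chkFixes at h
  simp only [List.all_eq_true, beq_iff_eq] at h
  exact h w hw

theorem W2_x {w : List ℕ} (hw : w ∈ D.W2) : wappS M.px w 804 = 804 :=
  fix_of_chkFixes D.W2 804 facts.h2x w hw

theorem L_x {w : List ℕ} (hw : w ∈ D.L) : wappS M.px w 804 = 804 :=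
  fix_of_chkFixes D.L 804 facts.h3x w hw

theorem L_y {w : List ℕ} (hw : w ∈ D.L) : wappS M.px w 2655 = 2655 :=
  fix_of_chkFixes D.L 2655 facts.h3y w hw

theorem CXW_x {w : List ℕ} (hw : w ∈ CXW) : wappS M.px w 804 = 804 :=
  fix_of_chkFixes CXW 804 cxw_fix w hw

/-- the elements of the stabilizer of the first base point -/
theorem stab_x (g : M.G) (hg : ra g 804 = 804) :
    ∃ w2 ∈ D.W2, ∃ l ∈ D.L, g = M.elt (l ++ w2) := by
  obtain ⟨w1, hw1, w2, hw2, l, hl, rfl⟩ := facts.sift g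
  refine ⟨w2, hw2, l, hl, ?_⟩
  have hlw : chkW M (l ++ w2) = true := chkW_append _ _ (chkW_L hl) (chkW_W2 hw2)
  have h1 : wappS M.px w1 804 = 804 := by
    rw [ra_elt _ (chkW_append _ _ hlw (chkW_W1 hw1)) _ (by norm_num), wappS_append,
      wappS_append, L_x hl, W2_x hw2] at hg
    exact hg
  have h2 : w1 = [] := by
    have hn : (D.W1.map fun w => wappS M.px w 804).Nodup := facts.h1
    exact List.inj_on_of_nodup_map hn hw1 nil_mem_W1 h1
  rw [h2, List.append_nil]

theorem ra_inv_fix {g : M.G} {q : ℕ} (hq : q < 6156) (hg : ra g q = q) : ra g⁻¹ q = q := by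
  have h1 : ra (g * g⁻¹) q = ra g⁻¹ (ra g q) := ra_mul g g⁻¹ q
  rw [mul_inv_cancel, ra_one q hq, hg] at h1
  exact h1.symm

theorem ra_inv_ra (g : M.G) (q : ℕ) (hq : q < 6156) : ra g (ra g⁻¹ q) = q := by
  rw [← ra_mul, inv_mul_cancel, ra_one q hq]

theorem ra_ra_inv (g : M.G) (q : ℕ) (hq : q < 6156) : ra g⁻¹ (ra g q) = q := by
  rw [← ra_mul, mul_inv_cancel, ra_one q hq]

theorem mem_O120L {q : ℕ} : q ∈ O120L ↔ ∃ w2 ∈ D.W2, wappS M.px w2 2655 = q := by
  rw [← o120_eq]
  unfold imgs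
  rw [List.mem_map]

theorem O120L_lt {q : ℕ} (hq : q ∈ O120L) : q < 6156 := by
  obtain ⟨w2, hw2, rfl⟩ := mem_O120L.mp hq
  exact wappS_lt w2 (chkW_W2 hw2) _ (by norm_num)

/-- the orbit of the second base point is invariant under the stabilizer of the first -/
theorem orbit_mem (g : M.G) (hg : ra g 804 = 804) {q : ℕ} (hq : q ∈ O120L) : ra g q ∈ O120L := by
  obtain ⟨w2', hw2', rfl⟩ := mem_O120L.mp hq
  have h1 : ra (M.elt w2' * g) 804 = 804 := by
    rw [ra_mul, ra_elt w2' (chkW_W2 hw2') _ (by norm_num), W2_x hw2', hg]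
  obtain ⟨w2, hw2, l, hl, e⟩ := stab_x _ h1
  have h2 : ra (M.elt w2' * g) 2655 = wappS M.px w2 2655 := by
    rw [e, ra_elt _ (chkW_append _ _ (chkW_L hl) (chkW_W2 hw2)) _ (by norm_num), wappS_append,
      L_y hl]
  rw [ra_mul, ra_elt w2' (chkW_W2 hw2') _ (by norm_num)] at h2
  rw [h2]
  exact mem_O120L.mpr ⟨w2, hw2, rfl⟩

theorem t_moves {q : ℕ} (hq : q ∈ O120L) : ra t q ≠ q := by
  have h := List.all_eq_true.mp o120_moved q hq
  rw [bne_iff_ne] at h
  rw [ra_t q (O120L_lt hq)]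
  exact h

/-- a conjugate of the involution under the stabilizer of the first base point moves the points of
the orbit of the second -/
theorem conj_moves (g : M.G) (hg : ra g 804 = 804) {q : ℕ} (hq : q ∈ O120L) :
    ra (g⁻¹ * t * g) q ≠ q := by
  intro h
  have hq' := O120L_lt hq
  have h1 : ra g⁻¹ q ∈ O120L := orbit_mem g⁻¹ (ra_inv_fix (by norm_num) hg) hq
  rw [ra_mul, ra_mul] at h
  have h2 : ra g (ra t (ra g⁻¹ q)) = ra g (ra g⁻¹ q) := by rw [h, ra_inv_ra g q hq']
  exact t_moves h1 (ra_inj g _ _ (ra_lt _ _) (ra_lt _ _) h2)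

theorem mem_GOODL {p : ℕ} (hp : p ∈ GOODL) : ∃ b ∈ CPW, wappS M.px b 804 = p := by
  rw [← cpw_img, List.mem_map] at hp
  exact hp

theorem comm_CXW {a : List ℕ} (ha : a ∈ CXW) : M.elt a * t = t * M.elt a := by
  have h := List.all_eq_true.mp cxw_comm a ha
  have := elt_eq_of_eqB _ _ (chkW_append _ _ (chkW_CXW ha) chk_tw)
    (chkW_append _ _ chk_tw (chkW_CXW ha)) h
  rw [M.elt_append a tw, M.elt_append tw a] at this
  exact this

theorem comm_CPW {b : List ℕ} (hb : b ∈ CPW) : M.elt b * t = t * M.elt b := by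
  have h := List.all_eq_true.mp cpw_comm b hb
  have := elt_eq_of_eqB _ _ (chkW_append _ _ (chkW_CPW hb) chk_tw)
    (chkW_append _ _ chk_tw (chkW_CPW hb)) h
  rw [M.elt_append b tw, M.elt_append tw b] at this
  exact this

/-- the products of the words give elements of the centralizer -/
theorem comm_of_mem {a b : List ℕ} (ha : a ∈ CXW) (hb : b ∈ CPW) :
    M.elt (a ++ b) * t = t * M.elt (a ++ b) := by
  rw [M.elt_append, mul_assoc, comm_CPW hb, ← mul_assoc, comm_CXW ha, mul_assoc]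

/-- the elements of the centralizer fixing the first base point -/
theorem mem_cent_x (c : M.G) (hc : c * t = t * c) (hx : ra c 804 = 804) :
    ∃ a ∈ CXW, c = M.elt a := by
  obtain ⟨w2, hw2, l, hl, rfl⟩ := stab_x c hx
  refine ⟨l ++ w2, ?_, rfl⟩
  have hlw : chkW M (l ++ w2) = true := chkW_append _ _ (chkW_L hl) (chkW_W2 hw2)
  have h := List.all_eq_true.mp (List.all_eq_true.mp stab_chk w2 hw2) l hl
  unfold stabChk at h
  rw [Bool.or_eq_true] at h
  rcases h with h | h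
  · exfalso
    rw [Bool.not_eq_true', ← Bool.not_eq_true] at h
    apply h
    apply eqB_of_elt_eq _ _ (chkW_append _ _ hlw chk_tw) (chkW_append _ _ chk_tw hlw)
    rw [M.elt_append (l ++ w2) tw, M.elt_append tw (l ++ w2)]
    exact hc
  · exact List.contains_iff_mem.mp h

/-- the elements of the centralizer -/
theorem mem_cent (c : M.G) (hc : c * t = t * c) :
    ∃ a ∈ CXW, ∃ b ∈ CPW, c = M.elt (a ++ b) := by
  obtain ⟨w1, hw1, w2, hw2, l, hl, e⟩ := facts.sift c
  have hlw : chkW M (l ++ w2) = true := chkW_append _ _ (chkW_L hl) (chkW_W2 hw2)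
  have hw1c := chkW_W1 hw1
  set g := M.elt (l ++ w2) with hg
  set h := M.elt w1 with hh
  have ec : c = g * h := by rw [e, M.elt_append]
  have hgx : ra g 804 = 804 := by
    rw [hg, ra_elt _ hlw _ (by norm_num), wappS_append, L_x hl, W2_x hw2]
  have hcx : ra c 804 = wappS M.px w1 804 := by
    rw [ec, ra_mul, hgx, hh, ra_elt w1 hw1c _ (by norm_num)]
  -- the image of the first base point is fixed by the involution
  have hfix : wappS M.px tw (wappS M.px w1 804) = wappS M.px w1 804 := by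
    rw [← hcx, ← ra_t _ (ra_lt _ _), ← ra_mul, hc, ra_mul, t_fix_x]
  -- the involution moves the images of the points of the orbit
  have hth : h * t = g⁻¹ * t * g * h := by
    have : g⁻¹ * t * g * h = g⁻¹ * (t * c) := by rw [ec]; group
    rw [this, ← hc, ec]
    group
  have hmv : ∀ q ∈ O120L, ¬ wappS M.px tw (wappS M.px w1 q) = wappS M.px w1 q := by
    intro q hq hqe
    have hq' := O120L_lt hq
    rw [← ra_elt w1 hw1c q hq', ← ra_t _ (ra_lt _ _), ← hh, ← ra_mul, hth, ra_mul] at hqe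
    exact conj_moves g hgx hq (ra_inj h _ _ (ra_lt _ _) hq' hqe)
  have hchk := List.all_eq_true.mp good_chk w1 hw1
  unfold goodChk at hchk
  rw [Bool.or_eq_true, Bool.or_eq_true] at hchk
  have hgood : wappS M.px w1 804 ∈ GOODL := by
    rcases hchk with h1 | h1 | h1
    · rw [bne_iff_ne] at h1
      exact absurd hfix h1
    · exact List.contains_iff_mem.mp h1
    · exfalso
      rw [List.any_eq_true] at h1
      obtain ⟨q, hq, hqe⟩ := h1
      rw [beq_iff_eq] at hqe
      exact hmv q hq hqe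
  obtain ⟨b, hb, hbx⟩ := mem_GOODL hgood
  have hbc := chkW_CPW hb
  -- the quotient fixes the first base point
  have hc' : c * (M.elt b)⁻¹ * t = t * (c * (M.elt b)⁻¹) := by
    have h1 : (M.elt b)⁻¹ * t = t * (M.elt b)⁻¹ := by
      rw [inv_mul_eq_iff_eq_mul, ← mul_assoc, comm_CPW hb, mul_assoc, mul_inv_cancel, mul_one]
    rw [mul_assoc, h1, ← mul_assoc, hc, mul_assoc]
  have hx' : ra (c * (M.elt b)⁻¹) 804 = 804 := by
    rw [ra_mul, hcx, ← hbx, ← ra_elt b hbc _ (by norm_num), ra_ra_inv _ _ (by norm_num)]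
  obtain ⟨a, ha, ea⟩ := mem_cent_x _ hc' hx'
  refine ⟨a, ha, b, hb, ?_⟩
  rw [M.elt_append, ← ea, inv_mul_cancel_right]

end Cfsg.Agent.Lib.Helper4.J3C
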