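import Cfsg.Agent.Lib.Helper4.J3C.K1
import Cfsg.Agent.Lib.Helper4.J3C.D1

set_option autoImplicit false
set_option maxRecDepth 100000

/-! # Checks of the data of the centralizer of an involution of `J3` -/

namespace Cfsg.Agent.Lib.Helper4.J3C

open Cfsg.Agent.Lib.Helper6 Cfsg.Agent.Lib.Helper6.TC Cfsg.Agent.Lib.Helper6.TCD
open Cfsg.Agent.Lib.Helper6.PM Cfsg.Agent.Lib.Helper2.PMS Cfsg.Agent.Lib.Helper2.J3M
open Cfsg.Agent.Lib.Helper2.J3Out

theorem chk_tw : chkW M tw = true := by decide +kernel

theorem tw_x : wappS M.px tw 804 = 804 := by decide +kernel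

theorem chk_CXW : chkLetters M CXW = true := by decide +kernel

theorem chk_CPW : chkLetters M CPW = true := by decide +kernel

theorem cxw_fix : chkFixes M CXW 804 = true := by decide +kernel

theorem cpw_img : CPW.map (fun b => wappS M.px b 804) = GOODL := by decide +kernel

theorem o120_eq : imgs M D.W2 2655 = O120L := by decide +kernel

theorem o120_moved : O120L.all (fun q => wappS M.px tw q != q) = true := by decide +kernel

theorem nil_mem_W1 : [] ∈ D.W1 := by decide +kernel

/-- the check that the image of the first base point under a word is one of the sixteen points -/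
noncomputable def goodChk (w1 : List ℕ) : Bool :=
  (wappS M.px tw (wappS M.px w1 804) != wappS M.px w1 804) ||
    (GOODL.contains (wappS M.px w1 804) ||
      O120L.any fun q => wappS M.px tw (wappS M.px w1 q) == wappS M.px w1 q)

theorem good_chk : D.W1.all goodChk = true := by decide +kernel

theorem cxw_comm : CXW.all (fun a => eqB (a ++ tw) (tw ++ a)) = true := by decide +kernel

theorem cpw_comm : CPW.all (fun b => eqB (b ++ tw) (tw ++ b)) = true := by decide +kernel

end Cfsg.Agent.Lib.Helper4.J3C
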