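import Cfsg.Agent.Lib.Helper4.J3C.K1
import Cfsg.Agent.Lib.Helper4.J3C.D1

set_option autoImplicit false
set_option maxRecDepth 100000

/-! # Checks for the order of the centralizer of an involution of `J3` -/

namespace Cfsg.Agent.Lib.Helper4.J3C

open Cfsg.Agent.Lib.Helper6 Cfsg.Agent.Lib.Helper6.TC Cfsg.Agent.Lib.Helper6.TCD
open Cfsg.Agent.Lib.Helper6.PM Cfsg.Agent.Lib.Helper2.PMS Cfsg.Agent.Lib.Helper2.J3M
open Cfsg.Agent.Lib.Helper2.J3Out

theorem goodl_nodup : GOODL.Nodup := by decide +kernel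

theorem cxw_keys : (CXW.map fun a => (wappS M.px a 2655, wappS M.px a 0)).Nodup := by
  decide +kernel

theorem length_CXW : CXW.length = 120 := by decide +kernel

theorem length_CPW : CPW.length = 16 := by decide +kernel

end Cfsg.Agent.Lib.Helper4.J3C
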