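import Cfsg.Agent.Lib.Helper4.J3C.K3
import Cfsg.Agent.Lib.Helper4.J3C.K4a

set_option autoImplicit false

/-! # The order of the centralizer of an involution of `J3` -/

namespace Cfsg.Agent.Lib.Helper4.J3C

open Cfsg.Agent.Lib.Helper6 Cfsg.Agent.Lib.Helper6.TC Cfsg.Agent.Lib.Helper6.TCD
open Cfsg.Agent.Lib.Helper6.PM Cfsg.Agent.Lib.Helper2.PMS Cfsg.Agent.Lib.Helper2.J3M
open Cfsg.Agent.Lib.Helper2.J3Out

/-- the centralizer of the involution -/
noncomputable abbrev Cn : Subgroup M.G := Subgroup.centralizer {t}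

theorem mem_Cn {c : M.G} : c ∈ Cn ↔ c * t = t * c := Subgroup.mem_centralizer_singleton_iff

/-- the pairs of words of the elements of the centralizer -/
def CP : List (List ℕ × List ℕ) := CXW ×ˢ CPW

/-- the word of a pair -/
def cw (p : List ℕ × List ℕ) : List ℕ := p.1 ++ p.2

/-- the words of the elements of the centralizer -/
def CW : List (List ℕ) := CP.map cw

theorem mem_CP {p : List ℕ × List ℕ} : p ∈ CP ↔ p.1 ∈ CXW ∧ p.2 ∈ CPW := by
  unfold CP
  rw [List.mem_product]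

theorem mem_CW {w : List ℕ} : w ∈ CW ↔ ∃ a ∈ CXW, ∃ b ∈ CPW, w = a ++ b := by
  unfold CW
  rw [List.mem_map]
  constructor
  · rintro ⟨p, hp, rfl⟩
    exact ⟨p.1, (mem_CP.mp hp).1, p.2, (mem_CP.mp hp).2, rfl⟩
  · rintro ⟨a, ha, b, hb, rfl⟩
    exact ⟨(a, b), mem_CP.mpr ⟨ha, hb⟩, rfl⟩

theorem chkW_CW {w : List ℕ} (hw : w ∈ CW) : chkW M w = true := by
  obtain ⟨a, ha, b, hb, rfl⟩ := mem_CW.mp hw
  exact chkW_append _ _ (chkW_CXW ha) (chkW_CPW hb)

theorem elt_mem_Cn {w : List ℕ} (hw : w ∈ CW) : M.elt w ∈ Cn := by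
  obtain ⟨a, ha, b, hb, rfl⟩ := mem_CW.mp hw
  exact mem_Cn.mpr (comm_of_mem ha hb)

theorem exists_of_mem_Cn {c : M.G} (hc : c ∈ Cn) : ∃ w ∈ CW, c = M.elt w := by
  obtain ⟨a, ha, b, hb, e⟩ := mem_cent c (mem_Cn.mp hc)
  exact ⟨a ++ b, mem_CW.mpr ⟨a, ha, b, hb, rfl⟩, e⟩

theorem CXW_nodup : CXW.Nodup := List.Nodup.of_map _ cxw_keys

theorem CPW_nodup : CPW.Nodup := by
  have := goodl_nodup
  rw [← cpw_img] at this
  exact List.Nodup.of_map _ this

theorem CP_nodup : CP.Nodup := List.Nodup.product CXW_nodup CPW_nodup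

theorem length_CW : CW.length = 1920 := by
  unfold CW CP
  rw [List.length_map, List.length_product, length_CXW, length_CPW]

theorem elt_injOn_CXW {a a' : List ℕ} (ha : a ∈ CXW) (ha' : a' ∈ CXW) (e : M.elt a = M.elt a') :
    a = a' := by
  refine List.inj_on_of_nodup_map cxw_keys ha ha' ?_
  show (wappS M.px a 2655, wappS M.px a 0) = (wappS M.px a' 2655, wappS M.px a' 0)
  rw [← ra_elt a (chkW_CXW ha) _ (by norm_num), ← ra_elt a (chkW_CXW ha) _ (by norm_num),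
    ← ra_elt a' (chkW_CXW ha') _ (by norm_num), ← ra_elt a' (chkW_CXW ha') _ (by norm_num), e]

theorem elt_cw_injOn {p p' : List ℕ × List ℕ} (hp : p ∈ CP) (hp' : p' ∈ CP)
    (e : M.elt (cw p) = M.elt (cw p')) : p = p' := by
  obtain ⟨a, b⟩ := p
  obtain ⟨a', b'⟩ := p'
  obtain ⟨ha, hb⟩ := mem_CP.mp hp
  obtain ⟨ha', hb'⟩ := mem_CP.mp hp'
  simp only at ha hb ha' hb'
  unfold cw at e
  simp only at e
  have hx : ∀ {a b : List ℕ}, a ∈ CXW → b ∈ CPW → ra (M.elt (a ++ b)) 804 = wappS M.px b 804 := by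
    intro a b ha hb
    rw [ra_elt _ (chkW_append _ _ (chkW_CXW ha) (chkW_CPW hb)) _ (by norm_num), wappS_append,
      CXW_x ha]
  have e1 : b = b' := by
    have hn : (CPW.map (fun b => wappS M.px b 804)).Nodup := by rw [cpw_img]; exact goodl_nodup
    refine List.inj_on_of_nodup_map hn hb hb' ?_
    show wappS M.px b 804 = wappS M.px b' 804
    rw [← hx ha hb, ← hx ha' hb', e]
  subst e1
  rw [M.elt_append, M.elt_append] at e
  have e2 : a = a' := elt_injOn_CXW ha ha' (mul_right_cancel e)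
  rw [e2]

theorem nodup_map_elt {L : List (List ℕ × List ℕ)} (hL : ∀ p ∈ L, p ∈ CP) (hn : L.Nodup) :
    (L.map fun p => M.elt (cw p)).Nodup :=
  List.Nodup.map_on (fun p hp p' hp' e => elt_cw_injOn (hL p hp) (hL p' hp') e) hn

/-- the order of a subgroup enumerated by a list of pairs of words -/
theorem card_of_list (H : Subgroup M.G) (L : List (List ℕ × List ℕ)) (hL : ∀ p ∈ L, p ∈ CP)
    (hn : L.Nodup) (h1 : ∀ p ∈ L, M.elt (cw p) ∈ H)
    (h2 : ∀ g ∈ H, ∃ p ∈ L, g = M.elt (cw p)) : Nat.card H = L.length := by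
  classical
  have hset : (H : Set M.G) = ↑(L.map fun p => M.elt (cw p)).toFinset := by
    ext g
    rw [Finset.mem_coe, List.mem_toFinset, List.mem_map, SetLike.mem_coe]
    constructor
    · intro hg
      obtain ⟨p, hp, e⟩ := h2 g hg
      exact ⟨p, hp, e.symm⟩
    · rintro ⟨p, hp, rfl⟩
      exact h1 p hp
  have : Nat.card H = Nat.card (H : Set M.G) := rfl
  rw [this, hset, Nat.card_coe_set_eq, Set.ncard_coe_finset,
    List.toFinset_card_of_nodup (nodup_map_elt hL hn), List.length_map]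

theorem exists_pair_of_mem_Cn {c : M.G} (hc : c ∈ Cn) : ∃ p ∈ CP, c = M.elt (cw p) := by
  obtain ⟨a, ha, b, hb, e⟩ := mem_cent c (mem_Cn.mp hc)
  exact ⟨(a, b), mem_CP.mpr ⟨ha, hb⟩, e⟩

theorem elt_pair_mem_Cn {p : List ℕ × List ℕ} (hp : p ∈ CP) : M.elt (cw p) ∈ Cn :=
  mem_Cn.mpr (comm_of_mem (mem_CP.mp hp).1 (mem_CP.mp hp).2)

theorem card_Cn : Nat.card Cn = 1920 := by
  rw [card_of_list Cn CP (fun _ h => h) CP_nodup (fun _ h => elt_pair_mem_Cn h)
    (fun _ h => exists_pair_of_mem_Cn h)]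
  unfold CP
  rw [List.length_product, length_CXW, length_CPW]

end Cfsg.Agent.Lib.Helper4.J3C
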