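import Cfsg.Agent.Lib.Helper4.J3C.K5a

set_option autoImplicit false

/-! # The action of the centralizer of an involution of `J3` on five blocks -/

namespace Cfsg.Agent.Lib.Helper4.J3C

open Cfsg.Agent.Lib.Helper6 Cfsg.Agent.Lib.Helper6.TC Cfsg.Agent.Lib.Helper6.TCD
open Cfsg.Agent.Lib.Helper6.PM Cfsg.Agent.Lib.Helper2.PMS Cfsg.Agent.Lib.Helper2.J3M
open Cfsg.Agent.Lib.Helper2.J3Out

/-- an element of the group preserves the five blocks -/
def BlockPres (g : M.G) : Prop :=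
  ∀ q, lab q < 5 → lab (ra g q) < 5 ∧ lab (ra g q) = lab (ra g (rp (lab q)))

theorem lt_of_lab_lt {q : ℕ} (h : lab q < 5) : q < 6156 := by
  by_contra hq
  unfold lab at h
  rw [if_neg hq] at h
  exact absurd h (by norm_num)

theorem mem_O80L_of_lab_lt {q : ℕ} (h : lab q < 5) : q ∈ O80L := by
  have h1 := List.all_eq_true.mp lab_o80 q (List.mem_range.mpr (lt_of_lab_lt h))
  rw [Bool.or_eq_true] at h1
  rcases h1 with h1 | h1
  · rw [Bool.not_eq_true', decide_eq_false_iff_not] at h1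
    exact absurd h h1
  · exact List.contains_iff_mem.mp h1

theorem lab_rp_lt (i : Fin 5) : lab (rp i.val) < 5 := by
  rw [lab_rp]
  exact i.isLt

theorem rp_lab_lt {q : ℕ} (h : lab q < 5) : rp (lab q) < 6156 := rp_lt ⟨lab q, h⟩

theorem blockPres_elt {w : List ℕ} (hw : chkW M w = true) (h : blkChk w = true) :
    BlockPres (M.elt w) := by
  intro q hq
  have h1 := List.all_eq_true.mp h q (mem_O80L_of_lab_lt hq)
  rw [Bool.and_eq_true, decide_eq_true_eq, beq_iff_eq] at h1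
  rw [ra_elt w hw q (lt_of_lab_lt hq), ra_elt w hw _ (rp_lab_lt hq)]
  exact h1

theorem BlockPres.mul {g h : M.G} (hg : BlockPres g) (hh : BlockPres h) : BlockPres (g * h) := by
  intro q hq
  obtain ⟨h1, h2⟩ := hg q hq
  obtain ⟨h3, h4⟩ := hh _ h1
  rw [ra_mul, ra_mul]
  refine ⟨h3, ?_⟩
  rw [h4, h2]
  have h5 := (hg _ (lab_rp_lt ⟨lab q, hq⟩)).1
  exact ((hh _ h5).2).symm

theorem blockPres_of_mem_Cn {c : M.G} (hc : c ∈ Cn) : BlockPres c := by
  obtain ⟨a, ha, b, hb, rfl⟩ := mem_cent c (mem_Cn.mp hc)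
  rw [M.elt_append]
  exact (blockPres_elt (chkW_CXW ha) (List.all_eq_true.mp blk_CXW a ha)).mul
    (blockPres_elt (chkW_CPW hb) (List.all_eq_true.mp blk_CPW b hb))

/-- the action of the centralizer on the five blocks -/
@[reducible] noncomputable def actFive : MulAction ↥Cn (Fin 5) where
  smul c i := ⟨lab (ra (c : M.G)⁻¹ (rp i.val)),
    (blockPres_of_mem_Cn (Subgroup.inv_mem _ c.2) (rp i.val) (lab_rp_lt i)).1⟩
  one_smul i := by
    refine Fin.ext ?_
    show lab (ra ((1 : ↥Cn) : M.G)⁻¹ (rp i.val)) = i.val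
    rw [Subgroup.coe_one, inv_one, ra_one _ (rp_lt i)]
    exact lab_rp i
  mul_smul c d i := by
    refine Fin.ext ?_
    show lab (ra ((c * d : ↥Cn) : M.G)⁻¹ (rp i.val)) =
      lab (ra (c : M.G)⁻¹ (rp (lab (ra (d : M.G)⁻¹ (rp i.val)))))
    rw [Subgroup.coe_mul, mul_inv_rev, ra_mul]
    exact (blockPres_of_mem_Cn (Subgroup.inv_mem _ c.2) _
      (blockPres_of_mem_Cn (Subgroup.inv_mem _ d.2) (rp i.val) (lab_rp_lt i)).1).2

/-- the homomorphism to the symmetric group of degree five -/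
noncomputable def theta : ↥Cn →* Equiv.Perm (Fin 5) := @MulAction.toPermHom ↥Cn (Fin 5) _ actFive

theorem theta_apply (c : ↥Cn) (i : Fin 5) :
    (theta c i).val = lab (ra (c : M.G)⁻¹ (rp i.val)) := rfl

theorem mem_ker_iff (c : ↥Cn) :
    c ∈ theta.ker ↔ ∀ i : Fin 5, lab (ra (c : M.G) (rp i.val)) = i.val := by
  have h1 : c ∈ theta.ker ↔ c⁻¹ ∈ theta.ker := (Subgroup.inv_mem_iff _).symm
  rw [h1, MonoidHom.mem_ker]
  constructor
  · intro h i
    have := theta_apply c⁻¹ i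
    rw [h, Subgroup.coe_inv, inv_inv] at this
    exact this.symm
  · intro h
    ext i
    rw [theta_apply, Subgroup.coe_inv, inv_inv]
    exact h i

theorem isKer_iff {w : List ℕ} (hw : chkW M w = true) :
    isKer w = true ↔ ∀ i : Fin 5, lab (ra (M.elt w) (rp i.val)) = i.val := by
  unfold isKer
  simp only [List.all_cons, List.all_nil, Bool.and_true, Bool.and_eq_true, beq_iff_eq]
  have key : ∀ i : Fin 5, lab (ra (M.elt w) (rp i.val)) = lab (wappS M.px w (rp i.val)) := by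
    intro i
    rw [ra_elt w hw _ (rp_lt i)]
  constructor
  · rintro ⟨h0, h1, h2, h3, h4⟩ i
    rw [key]
    fin_cases i
    · exact h0
    · exact h1
    · exact h2
    · exact h3
    · exact h4
  · intro h
    exact ⟨(key 0).symm.trans (h 0), (key 1).symm.trans (h 1), (key 2).symm.trans (h 2),
      (key 3).symm.trans (h 3), (key 4).symm.trans (h 4)⟩

theorem mem_QP {p : List ℕ × List ℕ} : p ∈ QP ↔ p ∈ CP ∧ isKer (cw p) = true := by
  unfold QP
  rw [List.mem_filter]

theorem QP_nodup : QP.Nodup := CP_nodup.filter _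

theorem chkW_cw {p : List ℕ × List ℕ} (hp : p ∈ CP) : chkW M (cw p) = true :=
  chkW_append _ _ (chkW_CXW (mem_CP.mp hp).1) (chkW_CPW (mem_CP.mp hp).2)

/-- the kernel, as a subgroup of the whole group -/
noncomputable def Qn : Subgroup M.G := theta.ker.map Cn.subtype

theorem mem_Qn {g : M.G} : g ∈ Qn ↔ ∃ h : g ∈ Cn, (⟨g, h⟩ : ↥Cn) ∈ theta.ker := by
  unfold Qn
  rw [Subgroup.mem_map]
  constructor
  · rintro ⟨c, hc, rfl⟩
    exact ⟨c.2, hc⟩
  · rintro ⟨h, hc⟩
    exact ⟨⟨g, h⟩, hc, rfl⟩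

theorem elt_mem_Qn {p : List ℕ × List ℕ} (h : p ∈ QP) : M.elt (cw p) ∈ Qn := by
  rw [mem_QP] at h
  rw [mem_Qn]
  refine ⟨elt_pair_mem_Cn h.1, ?_⟩
  rw [mem_ker_iff]
  exact (isKer_iff (chkW_cw h.1)).mp h.2

theorem exists_of_mem_Qn {g : M.G} (h : g ∈ Qn) : ∃ p ∈ QP, g = M.elt (cw p) := by
  rw [mem_Qn] at h
  obtain ⟨hc, hk⟩ := h
  obtain ⟨p, hp, rfl⟩ := exists_pair_of_mem_Cn hc
  refine ⟨p, ?_, rfl⟩
  rw [mem_QP]
  refine ⟨hp, ?_⟩
  rw [isKer_iff (chkW_cw hp)]
  exact (mem_ker_iff _).mp hk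

theorem card_Qn : Nat.card Qn = 32 := by
  rw [card_of_list Qn QP (fun _ h => (mem_QP.mp h).1) QP_nodup (fun _ h => elt_mem_Qn h)
    (fun _ h => exists_of_mem_Qn h), length_QP]

theorem card_ker : Nat.card theta.ker = 32 := by
  rw [← card_Qn]
  unfold Qn
  rw [Subgroup.card_map_of_injective (Subgroup.subtype_injective _)]

theorem card_range : Nat.card theta.range = 60 := by
  have h1 := Subgroup.card_mul_index theta.ker
  rw [Subgroup.index_ker, card_ker, card_Cn] at h1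
  omega

theorem range_eq : theta.range = alternatingGroup (Fin 5) := by
  apply Equiv.Perm.eq_alternatingGroup_of_index_eq_two
  have h1 := Subgroup.card_mul_index theta.range
  rw [card_range, Nat.card_eq_fintype_card, Fintype.card_perm, Fintype.card_fin] at h1
  have : Nat.factorial 5 = 120 := by decide
  omega

/-- the quotient of the centralizer by the kernel is the alternating group -/
noncomputable def quotEquiv : ↥Cn ⧸ theta.ker ≃* alternatingGroup (Fin 5) :=
  (QuotientGroup.quotientKerEquivRange theta).trans (MulEquiv.subgroupCongr range_eq)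

theorem t_mem_Cn : t ∈ Cn := mem_Cn.mpr rfl

theorem t_mem_Qn : t ∈ Qn := by
  rw [mem_Qn]
  refine ⟨t_mem_Cn, ?_⟩
  rw [mem_ker_iff]
  exact (isKer_iff chk_tw).mp isKer_tw

end Cfsg.Agent.Lib.Helper4.J3C
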