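import Cfsg.Agent.Lib.Helper4.J3C.K4

set_option autoImplicit false
set_option maxRecDepth 100000

/-! # Checks of the five blocks of the centralizer of an involution of `J3` -/

namespace Cfsg.Agent.Lib.Helper4.J3C

open Cfsg.Agent.Lib.Helper6 Cfsg.Agent.Lib.Helper6.TC Cfsg.Agent.Lib.Helper6.TCD
open Cfsg.Agent.Lib.Helper6.PM Cfsg.Agent.Lib.Helper2.PMS Cfsg.Agent.Lib.Helper2.J3M
open Cfsg.Agent.Lib.Helper2.J3Out

/-- the label of a point: the number of its block, or five -/
def lab (q : ℕ) : ℕ := if q < 6156 then Nat.land (Nat.shiftRight LABN (3 * q)) 7 else 5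

/-- a point with a given label -/
def rp (i : ℕ) : ℕ := REPL.getD i 0

theorem rp_lt : ∀ i : Fin 5, rp i.val < 6156 := by decide +kernel

theorem lab_rp : ∀ i : Fin 5, lab (rp i.val) = i.val := by decide +kernel

theorem lab_o80 : (List.range 6156).all (fun q => !(decide (lab q < 5)) || O80L.contains q) = true := by
  decide +kernel

/-- the check that a word preserves the blocks -/
noncomputable def blkChk (w : List ℕ) : Bool :=
  O80L.all fun q => decide (lab (wappS M.px w q) < 5) &&
    (lab (wappS M.px w q) == lab (wappS M.px w (rp (lab q))))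

theorem blk_CXW : CXW.all blkChk = true := by decide +kernel

theorem blk_CPW : CPW.all blkChk = true := by decide +kernel

/-- whether a word acts trivially on the blocks -/
noncomputable def isKer (w : List ℕ) : Bool :=
  [0, 1, 2, 3, 4].all fun i => lab (wappS M.px w (rp i)) == i

/-- the pairs of words of the elements of the kernel -/
noncomputable def QP : List (List ℕ × List ℕ) := CP.filter fun p => isKer (cw p)

theorem length_QP : QP.length = 32 := by decide +kernel

theorem isKer_tw : isKer tw = true := by decide +kernel

end Cfsg.Agent.Lib.Helper4.J3C
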