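import Cfsg.Agent.Lib.Helper4.J3C.K5
import Cfsg.Agent.Lib.Helper4.J3C.K6a
import Cfsg.Agent.Lib.Helper9.LargeExtra5

set_option autoImplicit false

/-! # The normal subgroup of order 32 of the centralizer of an involution of `J3` is extraspecial -/

namespace Cfsg.Agent.Lib.Helper4.J3C

open Cfsg.Agent.Lib.Helper6 Cfsg.Agent.Lib.Helper6.TC Cfsg.Agent.Lib.Helper6.TCD
open Cfsg.Agent.Lib.Helper6.PM Cfsg.Agent.Lib.Helper2.PMS Cfsg.Agent.Lib.Helper2.J3M
open Cfsg.Agent.Lib.Helper2.J3Out
open Classical
open scoped commutatorElement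

theorem mem_QWL {w : List ℕ} : w ∈ QWL ↔ ∃ p ∈ QP, cw p = w := by
  rw [← qwl_eq, List.mem_map]

theorem chkW_QWL {w : List ℕ} (hw : w ∈ QWL) : chkW M w = true := by
  obtain ⟨p, hp, rfl⟩ := mem_QWL.mp hw
  exact chkW_cw (mem_QP.mp hp).1

theorem elt_mem_Qn' {w : List ℕ} (hw : w ∈ QWL) : M.elt w ∈ Qn := by
  obtain ⟨p, hp, rfl⟩ := mem_QWL.mp hw
  exact elt_mem_Qn hp

theorem exists_word_of_mem_Qn {g : M.G} (h : g ∈ Qn) : ∃ w ∈ QWL, g = M.elt w := by
  obtain ⟨p, hp, e⟩ := exists_of_mem_Qn h
  exact ⟨cw p, mem_QWL.mpr ⟨p, hp, rfl⟩, e⟩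

theorem elt_nil_eq : M.elt [] = 1 := M.elt_nil

theorem t_ne_one : t ≠ 1 := by
  intro h
  have h1 := ra_t 2655 (by norm_num)
  rw [h, ra_one _ (by norm_num)] at h1
  exact t_ne h1.symm

theorem t_sq_eq : t * t = 1 := by
  have := elt_eq_of_eqB _ _ (chkW_append _ _ chk_tw chk_tw) chkW_nil t_sq
  rw [M.elt_append, M.elt_nil] at this
  exact this

theorem comm_cases {x y : M.G} (hx : x ∈ Qn) (hy : y ∈ Qn) :
    x * y = y * x ∨ x * y = t * (y * x) := by
  obtain ⟨w, hw, rfl⟩ := exists_word_of_mem_Qn hx
  obtain ⟨w', hw', rfl⟩ := exists_word_of_mem_Qn hy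
  have h := List.all_eq_true.mp (List.all_eq_true.mp chk_comm w hw) w' hw'
  rw [Bool.or_eq_true] at h
  have c1 := chkW_QWL hw
  have c2 := chkW_QWL hw'
  rcases h with h | h
  · left
    have := elt_eq_of_eqB _ _ (chkW_append _ _ c1 c2) (chkW_append _ _ c2 c1) h
    rw [M.elt_append w w', M.elt_append w' w] at this
    exact this
  · right
    have := elt_eq_of_eqB _ _ (chkW_append _ _ c1 c2)
      (chkW_append _ _ chk_tw (chkW_append _ _ c2 c1)) h
    rw [M.elt_append w w', M.elt_append tw (w' ++ w), M.elt_append w' w] at this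
    exact this

theorem sq_cases {x : M.G} (hx : x ∈ Qn) : x * x = 1 ∨ x * x = t := by
  obtain ⟨w, hw, rfl⟩ := exists_word_of_mem_Qn hx
  have h := List.all_eq_true.mp chk_sq w hw
  rw [Bool.or_eq_true] at h
  have c1 := chkW_QWL hw
  rcases h with h | h
  · left
    have := elt_eq_of_eqB _ _ (chkW_append _ _ c1 c1) chkW_nil h
    rw [M.elt_append w w, M.elt_nil] at this
    exact this
  · right
    have := elt_eq_of_eqB _ _ (chkW_append _ _ c1 c1) chk_tw h
    rw [M.elt_append w w] at this
    exact this

theorem center_cases {x : M.G} (hx : x ∈ Qn) (hc : ∀ y ∈ Qn, x * y = y * x) : x = 1 ∨ x = t := by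
  obtain ⟨w, hw, rfl⟩ := exists_word_of_mem_Qn hx
  have h := List.all_eq_true.mp chk_center w hw
  rw [Bool.or_eq_true, Bool.or_eq_true] at h
  have c1 := chkW_QWL hw
  rcases h with h | h | h
  · exfalso
    rw [Bool.not_eq_true', ← Bool.not_eq_true] at h
    apply h
    rw [List.all_eq_true]
    intro w' hw'
    have c2 := chkW_QWL hw'
    apply eqB_of_elt_eq _ _ (chkW_append _ _ c1 c2) (chkW_append _ _ c2 c1)
    rw [M.elt_append w w', M.elt_append w' w]
    exact hc _ (elt_mem_Qn' hw')
  · left
    have := elt_eq_of_eqB _ _ c1 chkW_nil h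
    rw [M.elt_nil] at this
    exact this
  · right
    exact elt_eq_of_eqB _ _ c1 chk_tw h

theorem rank_cases {x y : M.G} (hx : x ∈ Qn) (hy : y ∈ Qn) (hx2 : x * x = 1) (hy2 : y * y = 1)
    (hxy : x * y = y * x) : y = 1 ∨ y = t ∨ y = x ∨ y = x * t ∨ x = 1 ∨ x = t := by
  obtain ⟨w, hw, rfl⟩ := exists_word_of_mem_Qn hx
  obtain ⟨w', hw', rfl⟩ := exists_word_of_mem_Qn hy
  have h := List.all_eq_true.mp (List.all_eq_true.mp chk_rank w hw) w' hw'
  have c1 := chkW_QWL hw
  have c2 := chkW_QWL hw'
  simp only [Bool.or_eq_true] at h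
  rcases h with h | h | h | h | h | h | h | h | h
  · exfalso
    rw [Bool.not_eq_true', ← Bool.not_eq_true] at h
    apply h
    apply eqB_of_elt_eq _ _ (chkW_append _ _ c1 c1) chkW_nil
    rw [M.elt_append w w, M.elt_nil]
    exact hx2
  · exfalso
    rw [Bool.not_eq_true', ← Bool.not_eq_true] at h
    apply h
    apply eqB_of_elt_eq _ _ (chkW_append _ _ c2 c2) chkW_nil
    rw [M.elt_append w' w', M.elt_nil]
    exact hy2
  · exfalso
    rw [Bool.not_eq_true', ← Bool.not_eq_true] at h
    apply h
    apply eqB_of_elt_eq _ _ (chkW_append _ _ c1 c2) (chkW_append _ _ c2 c1)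
    rw [M.elt_append w w', M.elt_append w' w]
    exact hxy
  · left
    have := elt_eq_of_eqB _ _ c2 chkW_nil h
    rw [M.elt_nil] at this
    exact this
  · right; left
    exact elt_eq_of_eqB _ _ c2 chk_tw h
  · right; right; left
    exact elt_eq_of_eqB _ _ c2 c1 h
  · right; right; right; left
    have := elt_eq_of_eqB _ _ c2 (chkW_append _ _ c1 chk_tw) h
    rw [M.elt_append w tw] at this
    exact this
  · right; right; right; right; left
    have := elt_eq_of_eqB _ _ c1 chkW_nil h
    rw [M.elt_nil] at this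
    exact this
  · right; right; right; right; right
    exact elt_eq_of_eqB _ _ c1 chk_tw h

/-- the kernel, as a group -/
noncomputable abbrev Qk : Subgroup ↥Cn := theta.ker

/-- the inclusion of the kernel in the whole group -/
noncomputable def incl : ↥Qk →* M.G := Cn.subtype.comp Qk.subtype

theorem incl_injective : Function.Injective incl := by
  intro x y h
  exact Subtype.ext (Subtype.ext h)

theorem incl_mem (x : ↥Qk) : incl x ∈ Qn := mem_Qn.mpr ⟨x.val.2, x.2⟩

/-- the central involution, as an element of the kernel -/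
noncomputable def zq : ↥Qk := ⟨⟨t, t_mem_Cn⟩, (mem_Qn.mp t_mem_Qn).2⟩

theorem incl_zq : incl zq = t := rfl

theorem zq_ne_one : zq ≠ 1 := by
  intro h
  apply t_ne_one
  rw [← incl_zq, h, map_one]

theorem zq_sq : zq ^ 2 = 1 := by
  apply incl_injective
  rw [map_pow, incl_zq, map_one, pow_two, t_sq_eq]

theorem zq_mem_center : zq ∈ Subgroup.center ↥Qk := by
  rw [Subgroup.mem_center_iff]
  intro y
  apply incl_injective
  rw [map_mul, map_mul, incl_zq]
  have : incl y ∈ Cn := y.val.2
  exact Subgroup.mem_centralizer_singleton_iff.mp this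

theorem center_Qk : Subgroup.center ↥Qk = Subgroup.zpowers zq := by
  apply le_antisymm
  · intro x hx
    rw [Subgroup.mem_center_iff] at hx
    have h := center_cases (incl_mem x) (fun y hy => by
      obtain ⟨hy1, hy2⟩ := mem_Qn.mp hy
      have := hx ⟨⟨y, hy1⟩, hy2⟩
      have h2 := congrArg incl this
      rw [map_mul, map_mul] at h2
      exact h2.symm)
    rcases h with h | h
    · have : x = 1 := incl_injective (by rw [h, map_one])
      rw [this]
      exact Subgroup.one_mem _
    · have : x = zq := incl_injective (by rw [h, incl_zq])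
      rw [this]
      exact Subgroup.mem_zpowers _
  · rw [Subgroup.zpowers_le]
    exact zq_mem_center

theorem orderOf_zq : orderOf zq = 2 := orderOf_eq_prime zq_sq zq_ne_one

theorem card_center_Qk : Nat.card (Subgroup.center ↥Qk) = 2 := by
  rw [center_Qk, Nat.card_zpowers, orderOf_zq]

theorem card_Qk : Nat.card ↥Qk = 32 := card_ker

theorem comm_cases' (x y : ↥Qk) : x * y = y * x ∨ x * y = zq * (y * x) := by
  rcases comm_cases (incl_mem x) (incl_mem y) with h | h
  · left
    apply incl_injective
    rw [map_mul, map_mul, h]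
  · right
    apply incl_injective
    rw [map_mul, map_mul, map_mul, incl_zq, h]

theorem sq_cases' (x : ↥Qk) : x ^ 2 = 1 ∨ x ^ 2 = zq := by
  rcases sq_cases (incl_mem x) with h | h
  · left
    apply incl_injective
    rw [map_pow, pow_two, h, map_one]
  · right
    apply incl_injective
    rw [map_pow, pow_two, h, incl_zq]

theorem extraspecial_Qk : Cfsg.IsExtraspecial 2 ↥Qk := by
  haveI : Finite ↥Qk := Nat.finite_of_card_ne_zero (by rw [card_Qk]; norm_num)
  refine Cfsg.Agent.Lib.Helper9.LargeExtra.isExtraspecial_of_type ?_ card_center_Qk ?_ ?_ ?_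
  · exact IsPGroup.of_card (n := 5) (by rw [card_Qk]; norm_num)
  · intro x y
    rcases comm_cases' x y with h | h
    · rw [commutatorElement_eq_one_iff_mul_comm.mpr h]
      exact Subgroup.one_mem _
    · have : ⁅x, y⁆ = zq := by
        rw [commutatorElement_def, h]
        group
      rw [this]
      exact zq_mem_center
  · intro x
    rcases sq_cases' x with h | h
    · rw [h]
      exact Subgroup.one_mem _
    · rw [h]
      exact zq_mem_center
  · by_contra hcon
    push Not at hcon
    have htop : Subgroup.center ↥Qk = ⊤ := by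
      rw [eq_top_iff]
      intro x _
      rw [Subgroup.mem_center_iff]
      intro y
      exact (commutatorElement_eq_one_iff_mul_comm.mp (hcon y x))
    have := card_center_Qk
    rw [htop, Subgroup.card_top, card_Qk] at this
    norm_num at this

theorem rank_cases' (x y : ↥Qk) (hx2 : x ^ 2 = 1) (hy2 : y ^ 2 = 1) (hxy : x * y = y * x) :
    y = 1 ∨ y = zq ∨ y = x ∨ y = x * zq ∨ x = 1 ∨ x = zq := by
  have h1 : incl x * incl x = 1 := by rw [← map_mul, ← pow_two, hx2, map_one]
  have h2 : incl y * incl y = 1 := by rw [← map_mul, ← pow_two, hy2, map_one]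
  have h3 : incl x * incl y = incl y * incl x := by rw [← map_mul, ← map_mul, hxy]
  rcases rank_cases (incl_mem x) (incl_mem y) h1 h2 h3 with h | h | h | h | h | h
  · left
    exact incl_injective (by rw [h, map_one])
  · right; left
    exact incl_injective (by rw [h, incl_zq])
  · right; right; left
    exact incl_injective h
  · right; right; right; left
    exact incl_injective (by rw [h, map_mul, incl_zq])
  · right; right; right; right; left
    exact incl_injective (by rw [h, map_one])
  · right; right; right; right; right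
    exact incl_injective (by rw [h, incl_zq])

/-- the elementary abelian subgroups of the kernel have order at most four -/
theorem card_le_of_elementary (E : Subgroup ↥Qk) (hE : Cfsg.IsElementaryAbelian 2 E) :
    Nat.card E ≤ 2 ^ 2 := by
  obtain ⟨hc, hsq⟩ := hE
  rw [isMulCommutative_iff] at hc
  have hcomm : ∀ a ∈ E, ∀ b ∈ E, a * b = b * a := by
    intro a ha b hb
    have := hc ⟨a, ha⟩ ⟨b, hb⟩
    exact congrArg Subtype.val this
  haveI : Finite ↥Qk := Nat.finite_of_card_ne_zero (by rw [card_Qk]; norm_num)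
  have hbound : ∀ S : Finset ↥Qk, (E : Set ↥Qk) ⊆ ↑S → S.card ≤ 4 → Nat.card E ≤ 2 ^ 2 := by
    intro S hS hcard
    have h1 : Nat.card E = (E : Set ↥Qk).ncard := (Nat.card_coe_set_eq _)
    have h2 := Set.ncard_le_ncard hS (Finset.finite_toSet S)
    rw [Set.ncard_coe_finset] at h2
    rw [h1]
    omega
  by_cases hall : ∀ e ∈ E, e = 1 ∨ e = zq
  · apply hbound {1, zq}
    · intro e he
      rw [Finset.mem_coe, Finset.mem_insert, Finset.mem_singleton]
      exact hall e he
    · exact (Finset.card_le_two).trans (by norm_num)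
  · push Not at hall
    obtain ⟨u, hu, hu1, huz⟩ := hall
    apply hbound {1, zq, u, u * zq}
    · intro v hv
      rw [Finset.mem_coe]
      simp only [Finset.mem_insert, Finset.mem_singleton]
      rcases rank_cases' u v (hsq u hu) (hsq v hv) (hcomm u hu v hv) with h | h | h | h | h | h
      · exact Or.inl h
      · exact Or.inr (Or.inl h)
      · exact Or.inr (Or.inr (Or.inl h))
      · exact Or.inr (Or.inr (Or.inr h))
      · exact absurd h hu1
      · exact absurd h huz
    · exact Finset.card_le_four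

end Cfsg.Agent.Lib.Helper4.J3C
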