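import Cfsg.Agent.Lib.Helper4.J3C.K5a
import Cfsg.Agent.Lib.Helper4.J3C.D2

set_option autoImplicit false
set_option maxRecDepth 100000

/-! # Checks of a complement in the centralizer of an involution of `J3` -/

namespace Cfsg.Agent.Lib.Helper4.J3C

open Cfsg.Agent.Lib.Helper6 Cfsg.Agent.Lib.Helper6.TC Cfsg.Agent.Lib.Helper6.TCD
open Cfsg.Agent.Lib.Helper6.PM Cfsg.Agent.Lib.Helper2.PMS Cfsg.Agent.Lib.Helper2.J3M
open Cfsg.Agent.Lib.Helper2.J3Out

/-- the images of the three base points under a word -/
noncomputable def key (w : List ℕ) : List ℕ :=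
  [wappS M.px w 804, wappS M.px w 2655, wappS M.px w 0]

theorem hl_sub : HL.all (fun w => CXW.contains w) = true := by decide +kernel

theorem hl_nil : [] ∈ HL := by decide +kernel

theorem hkeys_eq : HL.map key = HKEYS := by decide +kernel

theorem hl_mul : HL.all (fun w => HL.all fun w' => HKEYS.contains (key (w ++ w'))) = true := by
  decide +kernel

theorem hkeys_nodup : HKEYS.Nodup := by decide +kernel

theorem hl_ker : HL.all (fun w => !(isKer w) || eqB w []) = true := by decide +kernel

theorem length_HL : HL.length = 60 := by decide +kernel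

end Cfsg.Agent.Lib.Helper4.J3C
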