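import Cfsg.Agent.Lib.Helper4.J3C.K6
import Cfsg.Agent.Lib.Helper4.J3C.K7a

set_option autoImplicit false

/-! # A complement of the normal subgroup of order 32 in the centralizer of an involution of `J3` -/

namespace Cfsg.Agent.Lib.Helper4.J3C

open Cfsg.Agent.Lib.Helper6 Cfsg.Agent.Lib.Helper6.TC Cfsg.Agent.Lib.Helper6.TCD
open Cfsg.Agent.Lib.Helper6.PM Cfsg.Agent.Lib.Helper2.PMS Cfsg.Agent.Lib.Helper2.J3M
open Cfsg.Agent.Lib.Helper2.J3Out
open Classical

theorem eqB_of_key {u v : List ℕ} (h : key u = key v) : eqB u v = true := by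
  unfold key at h
  simp only [List.cons.injEq, and_true] at h
  unfold eqB
  simp only [Bool.and_eq_true, beq_iff_eq]
  exact h

theorem key_of_elt_eq {u v : List ℕ} (hu : chkW M u = true) (hv : chkW M v = true)
    (h : M.elt u = M.elt v) : key u = key v := by
  have := eqB_of_elt_eq u v hu hv h
  unfold eqB at this
  simp only [Bool.and_eq_true, beq_iff_eq] at this
  unfold key
  rw [this.1, this.2.1, this.2.2]

theorem HL_sub {w : List ℕ} (hw : w ∈ HL) : w ∈ CXW :=
  List.contains_iff_mem.mp (List.all_eq_true.mp hl_sub w hw)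

theorem chkW_HL {w : List ℕ} (hw : w ∈ HL) : chkW M w = true := chkW_CXW (HL_sub hw)

theorem HL_mul {w w' : List ℕ} (hw : w ∈ HL) (hw' : w' ∈ HL) :
    ∃ w'' ∈ HL, M.elt w * M.elt w' = M.elt w'' := by
  have h := List.all_eq_true.mp (List.all_eq_true.mp hl_mul w hw) w' hw'
  rw [List.contains_iff_mem, ← hkeys_eq, List.mem_map] at h
  obtain ⟨w'', hw'', e⟩ := h
  refine ⟨w'', hw'', ?_⟩
  rw [← M.elt_append]
  exact (elt_eq_of_eqB _ _ (chkW_HL hw'') (chkW_append _ _ (chkW_HL hw) (chkW_HL hw'))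
    (eqB_of_key e)).symm

/-- a subset of a finite group containing one and closed under products is a subgroup -/
def subgroupOfMulClosed {G : Type*} [Group G] [Finite G] (S : Set G) (h1 : (1 : G) ∈ S)
    (hmul : ∀ a ∈ S, ∀ b ∈ S, a * b ∈ S) : Subgroup G where
  carrier := S
  mul_mem' := fun ha hb => hmul _ ha _ hb
  one_mem' := h1
  inv_mem' := by
    intro a ha
    have hpow : ∀ k : ℕ, a ^ k ∈ S := by
      intro k
      induction k with
      | zero => rw [pow_zero]; exact h1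
      | succ k ih => rw [pow_succ]; exact hmul _ ih _ ha
    have hpos : 0 < orderOf a := orderOf_pos a
    have : a⁻¹ = a ^ (orderOf a - 1) := by
      apply inv_eq_of_mul_eq_one_right
      rw [← pow_succ', Nat.sub_add_cancel hpos, pow_orderOf_eq_one]
    rw [this]
    exact hpow _

/-- the complement, as a subgroup of the whole group -/
noncomputable def Hn : Subgroup M.G :=
  subgroupOfMulClosed {g | ∃ w ∈ HL, g = M.elt w} ⟨[], hl_nil, M.elt_nil.symm⟩ (by
    rintro _ ⟨w, hw, rfl⟩ _ ⟨w', hw', rfl⟩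
    obtain ⟨w'', hw'', e⟩ := HL_mul hw hw'
    exact ⟨w'', hw'', e⟩)

theorem mem_Hn {g : M.G} : g ∈ Hn ↔ ∃ w ∈ HL, g = M.elt w := Iff.rfl

theorem Hn_le : Hn ≤ Cn := by
  intro g hg
  obtain ⟨w, hw, rfl⟩ := mem_Hn.mp hg
  exact mem_Cn.mpr (comm_CXW (HL_sub hw))

theorem HL_inj {w w' : List ℕ} (hw : w ∈ HL) (hw' : w' ∈ HL) (e : M.elt w = M.elt w') : w = w' := by
  have hn : (HL.map key).Nodup := by rw [hkeys_eq]; exact hkeys_nodup
  exact List.inj_on_of_nodup_map hn hw hw' (key_of_elt_eq (chkW_HL hw) (chkW_HL hw') e)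

theorem HL_nodup : HL.Nodup := by
  have hn : (HL.map key).Nodup := by rw [hkeys_eq]; exact hkeys_nodup
  exact List.Nodup.of_map _ hn

theorem card_Hn : Nat.card Hn = 60 := by
  have hnd : (HL.map M.elt).Nodup :=
    List.Nodup.map_on (fun w hw w' hw' e => HL_inj hw hw' e) HL_nodup
  have hset : (Hn : Set M.G) = ↑(HL.map M.elt).toFinset := by
    ext g
    rw [Finset.mem_coe, List.mem_toFinset, List.mem_map, SetLike.mem_coe, mem_Hn]
    constructor
    · rintro ⟨w, hw, e⟩
      exact ⟨w, hw, e.symm⟩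
    · rintro ⟨w, hw, e⟩
      exact ⟨w, hw, e.symm⟩
  have : Nat.card Hn = Nat.card (Hn : Set M.G) := rfl
  rw [this, hset, Nat.card_coe_set_eq, Set.ncard_coe_finset, List.toFinset_card_of_nodup hnd,
    List.length_map, length_HL]

/-- the complement, as a subgroup of the centralizer -/
noncomputable def Hk : Subgroup ↥Cn := Hn.subgroupOf Cn

theorem card_Hk : Nat.card Hk = 60 := by
  unfold Hk
  rw [Nat.card_congr (Subgroup.subgroupOfEquivOfLe Hn_le).toEquiv, card_Hn]

theorem disjoint_Qk_Hk : Disjoint Qk Hk := by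
  rw [Subgroup.disjoint_def]
  intro c hcq hch
  have h1 : (c : M.G) ∈ Hn := Subgroup.mem_subgroupOf.mp hch
  obtain ⟨w, hw, e⟩ := mem_Hn.mp h1
  have h2 := (mem_ker_iff c).mp hcq
  rw [e] at h2
  have h3 := (isKer_iff (chkW_HL hw)).mpr h2
  have h4 := List.all_eq_true.mp hl_ker w hw
  rw [h3, Bool.not_true, Bool.false_or] at h4
  have h5 := elt_eq_of_eqB _ _ (chkW_HL hw) chkW_nil h4
  rw [M.elt_nil] at h5
  apply Subtype.ext
  rw [e, h5]
  rfl

theorem isComplement_Qk_Hk : Qk.IsComplement' Hk := by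
  apply Subgroup.isComplement'_of_card_mul_and_disjoint
  · rw [card_Qk, card_Hk, card_Cn]
  · exact disjoint_Qk_Hk

end Cfsg.Agent.Lib.Helper4.J3C
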