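import Cfsg.Agent.Lib.Helper4.J3C.K8
import Cfsg.Agent.Lib.Helper9.ExtraTransport

set_option autoImplicit false

/-! # The centralizer of an involution of `J3`: the statement, and its transport along an
isomorphism -/

namespace Cfsg.Agent.Lib.Helper4.J3C

open Cfsg.Agent.Lib.Helper6 Cfsg.Agent.Lib.Helper6.TC Cfsg.Agent.Lib.Helper6.TCD
open Cfsg.Agent.Lib.Helper6.PM Cfsg.Agent.Lib.Helper2.PMS Cfsg.Agent.Lib.Helper2.J3M
open Cfsg.Agent.Lib.Helper2.J3Out

/-- the structure of the centralizer of an involution: a normal extraspecial subgroup of order 32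
without elementary abelian subgroups of order eight, with a complement, and with the alternating
group of degree five as the quotient -/
def CentProp (X : Type*) [Group X] (x : X) : Prop :=
  orderOf x = 2 ∧
  ∃ (Q : Subgroup ↥(Subgroup.centralizer ({x} : Set X))) (_ : Q.Normal),
    Cfsg.IsExtraspecial 2 Q ∧ Nat.card Q = 32 ∧
    (∀ E : Subgroup Q, Cfsg.IsElementaryAbelian 2 E → Nat.card E ≤ 2 ^ 2) ∧
    (∃ H : Subgroup ↥(Subgroup.centralizer ({x} : Set X)), Q.IsComplement' H) ∧
    Nonempty (↥(Subgroup.centralizer ({x} : Set X)) ⧸ Q ≃* ↥(alternatingGroup (Fin 5)))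

theorem centProp_t : CentProp M.G t :=
  ⟨orderOf_t, Qk, MonoidHom.normal_ker theta, extraspecial_Qk, card_Qk, card_le_of_elementary,
    ⟨Hk, isComplement_Qk_Hk⟩, ⟨quotEquiv⟩⟩

theorem map_centralizer_equiv {X Y : Type*} [Group X] [Group Y] (e : X ≃* Y) (x : X) :
    (Subgroup.centralizer {x}).map e.toMonoidHom = Subgroup.centralizer {e x} := by
  ext y
  rw [Subgroup.mem_map, Subgroup.mem_centralizer_singleton_iff]
  constructor
  · rintro ⟨g, hg, rfl⟩
    rw [Subgroup.mem_centralizer_singleton_iff] at hg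
    show e g * e x = e x * e g
    rw [← map_mul, ← map_mul, hg]
  · intro h
    refine ⟨e.symm y, ?_, e.apply_symm_apply y⟩
    rw [Subgroup.mem_centralizer_singleton_iff]
    apply e.injective
    rw [map_mul, map_mul, e.apply_symm_apply]
    exact h

/-- the isomorphism of the centralizers given by an isomorphism of groups -/
noncomputable def centEquiv {X Y : Type*} [Group X] [Group Y] (e : X ≃* Y) (x : X) :
    ↥(Subgroup.centralizer {x}) ≃* ↥(Subgroup.centralizer {e x}) :=
  (e.subgroupMap (Subgroup.centralizer {x})).trans (MulEquiv.subgroupCongr (map_centralizer_equiv e x))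

/-- the isomorphism of a subgroup with its preimage under an isomorphism -/
noncomputable def comapEquiv {A B : Type*} [Group A] [Group B] (ε : A ≃* B) (K : Subgroup B) :
    ↥(K.comap ε.toMonoidHom) ≃* ↥K :=
  (ε.subgroupMap (K.comap ε.toMonoidHom)).trans
    (MulEquiv.subgroupCongr (Subgroup.map_comap_eq_self_of_surjective ε.surjective K))

theorem comapEquiv_apply {A B : Type*} [Group A] [Group B] (ε : A ≃* B) (K : Subgroup B)
    (a : ↥(K.comap ε.toMonoidHom)) : ((comapEquiv ε K a : ↥K) : B) = ε (a : A) := rfl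

theorem centProp_of_equiv {X Y : Type*} [Group X] [Group Y] [Finite Y] (e : X ≃* Y) (x : X)
    (h : CentProp Y (e x)) : CentProp X x := by
  haveI : Finite X := Finite.of_equiv Y e.symm.toEquiv
  obtain ⟨hord, Q', hn, hex, hc, hel, ⟨H', hcompl⟩, ⟨f⟩⟩ := h
  refine ⟨?_, ?_⟩
  · rw [← hord]
    exact (MulEquiv.orderOf_eq e x).symm
  set ε := centEquiv e x with hε
  have hmap : (Q'.comap ε.toMonoidHom).map ε.toMonoidHom = Q' :=
    Subgroup.map_comap_eq_self_of_surjective ε.surjective Q'
  set eq := comapEquiv ε Q' with heq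
  refine ⟨Q'.comap ε.toMonoidHom, hn.comap _, ?_, ?_, ?_, ?_, ⟨?_⟩⟩
  · exact Cfsg.Agent.Lib.Helper9.isExtraspecial_of_mulEquiv eq.symm hex
  · rw [Nat.card_congr eq.toEquiv, hc]
  · intro E hE
    obtain ⟨hcomm, hsq⟩ := hE
    rw [isMulCommutative_iff] at hcomm
    have hE' : Cfsg.IsElementaryAbelian 2 (E.map eq.toMonoidHom) := by
      constructor
      · rw [isMulCommutative_iff]
        rintro ⟨a', ha'⟩ ⟨b', hb'⟩
        obtain ⟨a, ha, rfl⟩ := Subgroup.mem_map.mp ha'
        obtain ⟨b, hb, rfl⟩ := Subgroup.mem_map.mp hb'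
        apply Subtype.ext
        show eq.toMonoidHom a * eq.toMonoidHom b = eq.toMonoidHom b * eq.toMonoidHom a
        have := congrArg Subtype.val (hcomm ⟨a, ha⟩ ⟨b, hb⟩)
        have h2 : a * b = b * a := this
        rw [← map_mul, ← map_mul, h2]
      · intro a' ha'
        obtain ⟨a, ha, rfl⟩ := Subgroup.mem_map.mp ha'
        rw [← map_pow, hsq a ha, map_one]
    have := hel _ hE'
    rwa [Subgroup.card_map_of_injective eq.injective] at this
  · refine ⟨H'.comap ε.toMonoidHom, ?_⟩
    apply Subgroup.isComplement'_of_card_mul_and_disjoint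
    · rw [Nat.card_congr eq.toEquiv, Nat.card_congr (comapEquiv ε H').toEquiv,
        Nat.card_congr ε.toEquiv]
      exact hcompl.card_mul_card
    · rw [Subgroup.disjoint_def]
      intro c hcq hch
      have h1 : ε c ∈ Q' := hcq
      have h2 : ε c ∈ H' := hch
      have h3 := Subgroup.disjoint_def.mp hcompl.disjoint h1 h2
      exact ε.injective (by rw [h3, map_one])
  · haveI := hn
    haveI : (Q'.comap ε.toMonoidHom).Normal := hn.comap _
    exact (QuotientGroup.congr (Q'.comap ε.toMonoidHom) Q' ε hmap).trans f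

/-- the statement on the involutions and the centralizer of an involution -/
def MainProp (X : Type*) [Group X] : Prop :=
  (∀ x y : X, orderOf x = 2 → orderOf y = 2 → IsConj x y) ∧ ∃ t : X, CentProp X t

theorem mainProp_G : MainProp M.G := ⟨isConj_of_orderOf_two, t, centProp_t⟩

theorem mainProp_of_equiv {X Y : Type*} [Group X] [Group Y] [Finite Y] (e : X ≃* Y)
    (h : MainProp Y) : MainProp X := by
  obtain ⟨h1, s, hs⟩ := h
  constructor
  · intro x y hx hy
    have := h1 (e x) (e y) (by rw [MulEquiv.orderOf_eq e x, hx]) (by rw [MulEquiv.orderOf_eq e y, hy])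
    rw [isConj_iff] at this ⊢
    obtain ⟨c, hc⟩ := this
    refine ⟨e.symm c, ?_⟩
    apply e.injective
    rw [map_mul, map_mul, map_inv, e.apply_symm_apply]
    exact hc
  · refine ⟨e.symm s, ?_⟩
    apply centProp_of_equiv e
    rw [e.apply_symm_apply]
    exact hs

end Cfsg.Agent.Lib.Helper4.J3C
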